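/-
Orbits, fixed points and Sylow counts for subgroups of a permutation group.
-/
import Mathlib

set_option autoImplicit false

namespace Cfsg.Agent.MX

open Finset MulAction
open scoped Pointwise

variable {G X : Type*} [Group G] [MulAction G X]

theorem pfix {p : ℕ} [Fact p.Prime] {P : Subgroup G} (hP : IsPGroup p P) {S : Set X}
    (hS : ∀ g ∈ P, ∀ x ∈ S, g • x ∈ S) (h : ¬ p ∣ S.ncard) : ∃ x ∈ S, ∀ g ∈ P, g • x = x := by
  let T : SubMulAction P X := ⟨S, fun g {x} hx => hS g g.2 x hx⟩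
  obtain ⟨x, hx⟩ := hP.nonempty_fixed_point_of_prime_not_dvd_card T h
  exact ⟨x, x.2, fun g hg => congrArg Subtype.val (hx ⟨g, hg⟩)⟩

theorem exists_pow [Finite G] {p n : ℕ} [Fact p.Prime] {H : Subgroup G} (h : p ^ n ∣ Nat.card H) :
    ∃ P ≤ H, Nat.card P = p ^ n := by
  obtain ⟨K, hK⟩ := Sylow.exists_subgroup_card_pow_prime p h
  exact ⟨K.map H.subtype, Subgroup.map_subtype_le _, by
    rw [Subgroup.card_map_of_injective H.subtype_injective, hK]⟩

theorem exists_ord [Finite G] {p : ℕ} (hp : p.Prime) {H : Subgroup G} (h : p ∣ Nat.card H) :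
    ∃ y ∈ H, orderOf y = p := by
  have := Fact.mk hp
  obtain ⟨y, hy⟩ := exists_prime_orderOf_dvd_card' p h
  exact ⟨y, y.2, by rw [← hy, Subgroup.orderOf_coe]⟩

theorem le_of_syl [Finite G] {p k : ℕ} [Fact p.Prime] {P E K : Subgroup G} (hP : Nat.card P = p ^ k)
    (hE : IsPGroup p E) (hn : P ≤ Subgroup.normalizer (E : Set G)) (h1 : P ≤ K) (h2 : E ≤ K)
    (hK : ¬ p ^ (k + 1) ∣ Nat.card K) : E ≤ P := by
  obtain ⟨m, hm⟩ := IsPGroup.iff_card.1 ((IsPGroup.of_card hP).to_sup_of_normal_right' hE hn)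
  have h3 : p ^ m ∣ Nat.card K := hm ▸ Subgroup.card_dvd_of_le (sup_le h1 h2)
  have h4 : m ≤ k := by
    by_contra h
    exact hK ((pow_dvd_pow p (by omega)).trans h3)
  have : P = P ⊔ E := Subgroup.eq_of_le_of_card_ge le_sup_left
    (by rw [hm, hP]; exact Nat.pow_le_pow_right (Fact.out : p.Prime).pos h4)
  rw [this]; exact le_sup_right

/-- Sylow count for a subgroup of prime order -/
theorem syl_count [Finite G] {p : ℕ} (hp : p.Prime) {J : Subgroup G} {x : G} (hx : x ∈ J)
    (ho : orderOf x = p) (h2 : ¬ p ^ 2 ∣ Nat.card J) :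
    ∃ k, k ≡ 1 [MOD p] ∧
      k * Nat.card ↥(J ⊓ Subgroup.normalizer (Subgroup.zpowers x : Set G)) = Nat.card J := by
  have := Fact.mk hp
  have hle : Subgroup.zpowers x ≤ J := by simpa using hx
  have hc : Nat.card ((Subgroup.zpowers x).subgroupOf J) = p ^ (Nat.card J).factorization p := by
    rw [Nat.card_congr (Subgroup.subgroupOfEquivOfLe hle).toEquiv, Nat.card_zpowers, ho]
    have a : 1 ≤ (Nat.card J).factorization p :=
      (hp.pow_dvd_iff_le_factorization Nat.card_pos.ne').1 (by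
        rw [pow_one, ← ho, ← Nat.card_zpowers]; exact Subgroup.card_dvd_of_le hle)
    have b : ¬ 2 ≤ (Nat.card J).factorization p := fun h =>
      h2 ((hp.pow_dvd_iff_le_factorization Nat.card_pos.ne').2 h)
    rw [show (Nat.card J).factorization p = 1 by omega, pow_one]
  let P : Sylow p J := Sylow.ofCard _ hc
  refine ⟨_, card_sylow_modEq_one p J, ?_⟩
  rw [P.card_eq_index_normalizer, ← (Subgroup.normalizer (P : Set J)).index_mul_card]
  congr 1
  have : Subgroup.normalizer (P : Set J) =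
      (J ⊓ Subgroup.normalizer (Subgroup.zpowers x : Set G)).subgroupOf J := by
    rw [Subgroup.inf_subgroupOf_left, Subgroup.subgroupOf_normalizer_eq hle]; rfl
  rw [this, Nat.card_congr (Subgroup.subgroupOfEquivOfLe inf_le_left).toEquiv]

/-- elements of prime order are conjugate up to powers -/
theorem conj_zp [Finite G] {p : ℕ} (hp : p.Prime) {J : Subgroup G} {x y : G} (hx : x ∈ J) (hy : y ∈ J)
    (ho : orderOf x = p) (ho' : orderOf y = p) (h2 : ¬ p ^ 2 ∣ Nat.card J) :
    ∃ g ∈ J, g * x * g⁻¹ ∈ Subgroup.zpowers y := by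
  have := Fact.mk hp
  have hc : ∀ x ∈ J, orderOf x = p →
      Nat.card ((Subgroup.zpowers x).subgroupOf J) = p ^ (Nat.card J).factorization p := by
    intro x hx ho
    have hle : Subgroup.zpowers x ≤ J := by simpa using hx
    rw [Nat.card_congr (Subgroup.subgroupOfEquivOfLe hle).toEquiv, Nat.card_zpowers, ho]
    have a : 1 ≤ (Nat.card J).factorization p :=
      (hp.pow_dvd_iff_le_factorization Nat.card_pos.ne').1 (by
        rw [pow_one, ← ho, ← Nat.card_zpowers]; exact Subgroup.card_dvd_of_le hle)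
    have b : ¬ 2 ≤ (Nat.card J).factorization p := fun h =>
      h2 ((hp.pow_dvd_iff_le_factorization Nat.card_pos.ne').2 h)
    rw [show (Nat.card J).factorization p = 1 by omega, pow_one]
  obtain ⟨g, hg⟩ := exists_smul_eq J (Sylow.ofCard _ (hc x hx ho)) (Sylow.ofCard _ (hc y hy ho'))
  refine ⟨g, g.2, ?_⟩
  have : (⟨x, hx⟩ : J) ∈ Sylow.ofCard _ (hc x hx ho) := Subgroup.mem_zpowers x
  have h3 := (Subgroup.smul_mem_pointwise_smul _ (MulAut.conj g) _ this)
  rw [← Sylow.coe_subgroup_smul, hg] at h3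
  exact h3

variable [Fintype X] [DecidableEq X]

/-- fixed points -/
@[irreducible] def fx (y : G) : Finset X := univ.filter fun p => y • p = p

theorem mem_fx {y : G} {p : X} : p ∈ (fx y : Finset X) ↔ y • p = p := by simp [fx]

theorem inv_mod {p : ℕ} (hp : p.Prime) {y : G} (hy : y ^ p = 1) {A : Finset X} (hA : y • A = A) :
    (A ∩ fx y).card ≡ A.card [MOD p] := by
  have := Fact.mk hp
  have h : ∀ x, toPerm y x ∈ A ↔ x ∈ A := fun x => by
    conv_lhs => rw [← hA]
    exact smul_mem_smul_finset_iff y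
  have := Equiv.Perm.card_compl_support_modEq (p := p) (n := 1) (σ := (toPerm y).subtypePerm h) (by
    rw [pow_one, Equiv.Perm.subtypePerm_pow]
    ext x
    have : (toPerm y : Equiv.Perm X) ^ p = 1 := by
      rw [← toPermHom_apply, ← map_pow, hy, map_one]
    simp [this])
  rw [Fintype.card_coe] at this
  convert this using 1
  rw [← card_map (Function.Embedding.subtype _)]
  congr 1
  ext x
  simp only [mem_inter, mem_fx, mem_map, mem_compl, Equiv.Perm.notMem_support,
    Function.Embedding.coe_subtype]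
  constructor
  · rintro ⟨a, b⟩
    exact ⟨⟨x, a⟩, Subtype.ext b, rfl⟩
  · rintro ⟨a, b, rfl⟩
    exact ⟨a.2, congrArg Subtype.val b⟩

theorem sub_fx {p : ℕ} (hp : p.Prime) {y : G} (hy : y ^ p = 1) {A : Finset X} (hA : y • A = A)
    (h : A.card < p) : A ⊆ fx y := by
  have h1 := inv_mod hp hy hA
  have h2 : (A ∩ fx y).card ≤ A.card := card_le_card inter_subset_left
  rw [Nat.ModEq, Nat.mod_eq_of_lt h, Nat.mod_eq_of_lt (by omega)] at h1
  exact inter_eq_left.1 (eq_of_subset_of_card_le inter_subset_left h1.ge)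

open Classical in
/-- orbits as finite sets -/
@[irreducible] noncomputable def ob (H : Subgroup G) (q : X) : Finset X := univ.filter fun r => ∃ g ∈ H, g • q = r

theorem mem_ob {H : Subgroup G} {q r : X} : r ∈ ob H q ↔ ∃ g ∈ H, g • q = r := by simp [ob]

theorem self_ob (H : Subgroup G) (q : X) : q ∈ ob H q := mem_ob.2 ⟨1, one_mem _, one_smul _ _⟩

theorem ob_inv {H : Subgroup G} {g : G} (hg : g ∈ H) (q : X) : g • ob H q = ob H q := by
  ext r
  rw [← inv_smul_mem_iff, mem_ob, mem_ob]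
  exact ⟨fun ⟨a, ha, e⟩ => ⟨g * a, mul_mem hg ha, by rw [mul_smul, e, smul_inv_smul]⟩,
    fun ⟨a, ha, e⟩ => ⟨g⁻¹ * a, mul_mem (inv_mem hg) ha, by rw [mul_smul, e]⟩⟩

theorem ob_eq {H : Subgroup G} {q r : X} (h : r ∈ ob H q) : ob H r = ob H q := by
  obtain ⟨g, hg, rfl⟩ := mem_ob.1 h
  ext s
  rw [mem_ob, mem_ob]
  exact ⟨fun ⟨a, ha, e⟩ => ⟨a * g, mul_mem ha hg, by rw [mul_smul, e]⟩,
    fun ⟨a, ha, e⟩ => ⟨a * g⁻¹, mul_mem ha (inv_mem hg), by rw [mul_smul, inv_smul_smul, e]⟩⟩

theorem card_ob (H : Subgroup G) (q : X) :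
    (ob H q).card * Nat.card ↥(H ⊓ stabilizer G q) = Nat.card H := by
  have e : orbit H q = (ob H q : Set X) := by
    ext r
    rw [mem_coe, mem_ob]
    exact ⟨fun ⟨a, e⟩ => ⟨a, a.2, e⟩, fun ⟨a, ha, e⟩ => ⟨⟨a, ha⟩, e⟩⟩
  rw [← (stabilizer H q).index_mul_card, index_stabilizer, e, Set.ncard_coe_finset]
  congr 1
  have : stabilizer H q = (H ⊓ stabilizer G q).subgroupOf H := by
    rw [Subgroup.inf_subgroupOf_left]; rfl
  rw [this, Nat.card_congr (Subgroup.subgroupOfEquivOfLe inf_le_left).toEquiv]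

theorem ob_dvd (H : Subgroup G) (q : X) : (ob H q).card ∣ Nat.card H := ⟨_, (card_ob H q).symm⟩

theorem ob_smul {H : Subgroup G} {h : G} (hh : h ∈ H) (p q : X) :
    ob (H ⊓ stabilizer G (h • p)) (h • q) = h • ob (H ⊓ stabilizer G p) q := by
  ext r
  rw [← inv_smul_mem_iff, mem_ob, mem_ob]
  constructor
  · rintro ⟨a, ha, rfl⟩
    rw [Subgroup.mem_inf, mem_stabilizer_iff] at ha
    refine ⟨h⁻¹ * a * h, Subgroup.mem_inf.2 ⟨mul_mem (mul_mem (inv_mem hh) ha.1) hh, ?_⟩,
      by simp [mul_smul]⟩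
    rw [mem_stabilizer_iff, mul_smul, mul_smul, ha.2, inv_smul_smul]
  · rintro ⟨a, ha, e⟩
    rw [Subgroup.mem_inf, mem_stabilizer_iff] at ha
    refine ⟨h * a * h⁻¹, Subgroup.mem_inf.2 ⟨mul_mem (mul_mem hh ha.1) (inv_mem hh), ?_⟩,
      by simp [mul_smul, e]⟩
    rw [mem_stabilizer_iff, mul_smul, mul_smul, inv_smul_smul, ha.2]

/-- the points in short orbits of a point stabiliser -/
@[irreducible] noncomputable def sm (H : Subgroup G) (n : ℕ) (p : X) : Finset X :=
  univ.filter fun q => (ob (H ⊓ stabilizer G p) q).card < n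

theorem mem_sm {H : Subgroup G} {n : ℕ} {p q : X} :
    q ∈ sm H n p ↔ (ob (H ⊓ stabilizer G p) q).card < n := by simp [sm]

theorem sm_smul {H : Subgroup G} {h : G} (hh : h ∈ H) (n : ℕ) (p : X) :
    sm H n (h • p) = h • sm H n p := by
  ext r
  rw [← inv_smul_mem_iff, mem_sm, mem_sm, ← card_smul_finset h (ob (H ⊓ stabilizer G p) _),
    ← ob_smul hh, smul_inv_smul]

theorem self_sm {H : Subgroup G} {n : ℕ} (hn : 1 < n) (p : X) : p ∈ sm H n p := by
  rw [mem_sm]
  refine lt_of_le_of_lt (card_le_one.2 fun a ha b hb => ?_) hn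
  obtain ⟨g, hg, rfl⟩ := mem_ob.1 ha
  obtain ⟨g', hg', rfl⟩ := mem_ob.1 hb
  rw [hg.2, hg'.2]

theorem sm_eq {H : Subgroup G} {n : ℕ} {p q : X} (h1 : n ≤ (ob (H ⊓ stabilizer G p) q).card)
    (h2 : Fintype.card X < n + (ob (H ⊓ stabilizer G p) q).card) :
    sm H n p = (ob (H ⊓ stabilizer G p) q)ᶜ := by
  ext r
  rw [mem_sm, mem_compl]
  constructor
  · intro h hr
    rw [ob_eq hr] at h; omega
  · intro h
    have : Disjoint (ob (H ⊓ stabilizer G p) r) (ob (H ⊓ stabilizer G p) q) :=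
      disjoint_left.2 fun s a b => h (by rw [← ob_eq b, ob_eq a]; exact self_ob _ _)
    have h3 := card_le_univ (ob (H ⊓ stabilizer G p) r ∪ ob (H ⊓ stabilizer G p) q)
    rw [card_union_of_disjoint this] at h3
    omega

/-- short orbits give blocks -/
theorem sm_block {H : Subgroup G} {n a : ℕ} (hn : 1 < n) (ha : ∀ p : X, (sm H n p).card = a)
    (h : (a - 1) * a < n) {p u : X} (hu : u ∈ sm H n p) : sm H n u = sm H n p := by
  by_cases e : u = p
  · rw [e]
  refine eq_of_subset_of_card_le (fun w hw => mem_sm.2 ?_) (by rw [ha, ha])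
  have : ob (H ⊓ stabilizer G p) w ⊆ ((sm H n p).erase p).biUnion (sm H n) := fun r hr => by
    obtain ⟨g, hg, rfl⟩ := mem_ob.1 hr
    have hp : g • p = p := hg.2
    refine mem_biUnion.2 ⟨g • u, mem_erase.2 ⟨fun e' => e (MulAction.injective g (e'.trans hp.symm)),
      ?_⟩, ?_⟩
    · rw [← hp, sm_smul hg.1]; exact smul_mem_smul_finset hu
    · rw [sm_smul hg.1]; exact smul_mem_smul_finset hw
  refine lt_of_le_of_lt ((card_le_card this).trans ((card_biUnion_le_card_mul _ _ a
    fun q _ => (ha q).le).trans ?_)) h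
  rw [card_erase_of_mem (self_sm hn p), ha]

theorem block_fx {H : Subgroup G} {n a r : ℕ} (hn : 1 < n) (ha : ∀ p : X, (sm H n p).card = a)
    (h : (a - 1) * a < n) (hr : r.Prime) {y : G} (hy : y ∈ H) (hy' : y ^ r = 1) (har : a < r)
    (h1 : a < (fx y : Finset X).card) : 2 * a ≤ (fx y : Finset X).card := by
  have k : ∀ p ∈ (fx y : Finset X), sm H n p ⊆ fx y := fun p hp =>
    sub_fx hr hy' (by rw [← sm_smul hy, mem_fx.1 hp]) (by rw [ha]; exact har)
  obtain ⟨p, hp⟩ := card_pos.1 (lt_of_le_of_lt (Nat.zero_le _) h1)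
  obtain ⟨q, hq, hq'⟩ := exists_mem_notMem_of_card_lt_card (s := sm H n p) (t := fx y) (by rwa [ha])
  have d : Disjoint (sm H n p) (sm H n q) := disjoint_left.2 fun s a b =>
    hq' (by rw [← sm_block hn ha h a, sm_block hn ha h b]; exact self_sm hn q)
  have := card_le_card (union_subset (k p hp) (k q hq))
  rw [card_union_of_disjoint d, ha, ha] at this
  omega

theorem card_blocks {f : X → Finset X} {a : ℕ} (h1 : ∀ p, p ∈ f p) (ha : ∀ p, (f p).card = a)
    (dj : ∀ p q, f p ≠ f q → Disjoint (f p) (f q)) :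
    (univ.image f).card * a = Fintype.card X := by
  have e : (univ.image f).biUnion id = (univ : Finset X) := eq_univ_of_forall fun p =>
    mem_biUnion.2 ⟨_, mem_image_of_mem _ (mem_univ p), h1 p⟩
  have := congrArg card e
  rwa [card_biUnion fun t h u h' ne => by
    obtain ⟨p, -, rfl⟩ := mem_image.1 (mem_coe.1 h)
    obtain ⟨q, -, rfl⟩ := mem_image.1 (mem_coe.1 h')
    exact dj p q ne, sum_const_nat (m := a) fun t h => by
      obtain ⟨p, -, rfl⟩ := mem_image.1 h
      exact ha p, card_univ] at this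

end Cfsg.Agent.MX
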