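/-
Subgroups of the group of the length-24 code with a large Sylow 2-subgroup.
-/
import Cfsg.Agent.MX.A
import Cfsg.Agent.Gol.Sex

set_option autoImplicit false

namespace Cfsg.Agent.MX

open Cfsg Cfsg.Agent.Gol Finset MulAction
open scoped Pointwise

abbrev Pt := GolayPt

theorem card_m19 : Nat.card (St 8388623 []) = 48 :=
  card_St_chain (steps := m24Steps) (ls := m24Chain.drop 5) (by decide +kernel) (by decide)

theorem toF_f5 : toF 8388623 = {pt 23, pt 0, pt 1, pt 2, pt 3} := by decide +kernel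

theorem fx_le {p : ℕ} (hp : p.Prime) (h5 : 5 ≤ p) {y : M24} (hy : orderOf y = p) :
    (fx y : Finset Pt).card ≤ 4 := by
  by_contra h
  obtain ⟨m, h1, h2, h3⟩ := extend_list (s := fx y) [] (by simp) (by simp) 5 (by simp; omega)
  match m, h1 with
  | [a, b, c, d, e], _ =>
    obtain ⟨g, rfl, rfl, rfl, rfl, rfl⟩ := std5 (by simpa using h2)
    have k : ∀ x, g • x ∈ (fx y : Finset Pt) → (g⁻¹ * y * g) • x = x := fun x hx => by
      rw [mul_smul, mul_smul, mem_fx.1 hx, inv_smul_smul]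
    have : g⁻¹ * y * g ∈ St 8388623 [] := ⟨fun x hx => by
      rw [toF_f5] at hx
      simp only [mem_insert, mem_singleton] at hx
      rcases hx with rfl | rfl | rfl | rfl | rfl <;> exact k _ (h3 _ (by simp)), by simp⟩
    have h4 := (St 8388623 []).orderOf_dvd_natCard this
    rw [card_m19, show g⁻¹ * y * g = MulAut.conj g⁻¹ y by simp, MulEquiv.orderOf_eq, hy] at h4
    have := (Nat.Prime.dvd_mul hp).1 (show p ∣ 2 ^ 4 * 3 from h4)
    rcases this with h | h
    · have := Nat.le_of_dvd (by norm_num) (hp.dvd_of_dvd_pow h); omega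
    · have := Nat.le_of_dvd (by norm_num) h; omega

theorem fx_mod {p : ℕ} (hp : p.Prime) {y : M24} (hy : orderOf y = p) :
    (fx y : Finset Pt).card % p = 24 % p := by
  have := inv_mod (X := Pt) hp (y := y) (hy ▸ pow_orderOf_eq_one y) (A := univ) smul_finset_univ
  rwa [univ_inter, card_univ, card_pt] at this

/-- the pointwise stabiliser of a set -/
abbrev EE (o : Finset Pt) : Subgroup M24 := fixingSubgroup M24 (o : Set Pt)

theorem mem_EE {o : Finset Pt} {g : M24} : g ∈ EE o ↔ ∀ x ∈ o, g • x = x := mem_fixingSubgroup_iff _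

theorem EE_le (o : Finset Pt) : EE o ≤ stabilizer M24 o := fun g hg => by
  rw [mem_stabilizer_iff, smul_finset_def, image_congr (g := id) (mem_EE.1 hg), image_id]

theorem EE_conj {o : Finset Pt} {g x : M24} : g * x * g⁻¹ ∈ EE (g • o) ↔ x ∈ EE o := by
  simp only [mem_EE]
  exact ⟨fun h p hp => (cj_iff _ _ _ _).1 (h _ (smul_mem_smul_finset hp)), fun h p hp => by
    obtain ⟨q, hq, rfl⟩ := mem_smul_finset.1 hp
    exact cj g (h q hq)⟩

theorem card_EE {o : Finset Pt} (ho : o ∈ octads) : Nat.card (EE o) = 16 := by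
  obtain ⟨g, rfl⟩ := std_oct ho
  rw [← card_e16]
  exact (Nat.card_congr (conjEquiv g fun x => by rw [EE_conj, mem_EE]; simp [mem_St]).toEquiv).symm

theorem EE_trans {o : Finset Pt} (ho : o ∈ octads) {p q : Pt} (hp : p ∉ o) (hq : q ∉ o) :
    ∃ g ∈ EE o, g • p = q := by
  obtain ⟨a, rfl⟩ := std_oct ho
  obtain ⟨p, rfl⟩ := ex_smul a p
  obtain ⟨q, rfl⟩ := ex_smul a q
  obtain ⟨b, hb, rfl⟩ := e16_trans p fun h => hp (smul_mem_smul_finset h)
  obtain ⟨c, hc, rfl⟩ := e16_trans q fun h => hq (smul_mem_smul_finset h)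
  exact ⟨_, EE_conj.2 (mul_mem (mem_EE.2 hc.1) (inv_mem (mem_EE.2 hb.1))), cj a tr2⟩

theorem EE_norm (o : Finset Pt) : stabilizer M24 o ≤ Subgroup.normalizer (EE o : Set M24) :=
  fun g hg => Subgroup.mem_normalizer_iff.2 fun x => by
    conv_rhs => rw [← mem_stabilizer_iff.1 hg]
    exact EE_conj.symm

theorem card_stab_pt (x : Pt) : Nat.card (stabilizer M24 x) = 10200960 := by
  have := card_ob (G := M24) ⊤ x
  rw [top_inf_eq, Subgroup.card_top, card_M24, show ob ⊤ x = univ from eq_univ_of_forall fun y => by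
    obtain ⟨g, rfl⟩ := std1 x
    obtain ⟨h, rfl⟩ := std1 y
    exact mem_ob.2 ⟨_, trivial, tr2⟩, card_univ, card_pt] at this
  omega

theorem card_xo {x : Pt} {o : Finset Pt} (ho : o ∈ octads) (hx : x ∈ o) :
    Nat.card ↥(stabilizer M24 o ⊓ stabilizer M24 x) = 40320 := by
  have := card_ob (stabilizer M24 o) x
  rw [card_stab_oct ho, show ob (stabilizer M24 o) x = o from Finset.ext fun y => by
    rw [mem_ob]
    constructor
    · rintro ⟨g, hg, rfl⟩
      rw [← mem_stabilizer_iff.1 hg]; exact smul_mem_smul_finset hx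
    · intro hy
      obtain ⟨g, rfl, e⟩ := pt_oct_in ho hx
      obtain ⟨h, rfl, e'⟩ := pt_oct_in ho hy
      exact ⟨h * g⁻¹, by rw [mem_stabilizer_iff]; conv_lhs => rw [← e, tr2, e'], tr2⟩, ho.2] at this
  omega

theorem card_stab_k {k : ℕ} {s : Finset Pt} (hs : s.card = k)
    (h : ∀ t : Finset Pt, t.card = k → ∃ g : M24, g • s = t) :
    Nat.choose 24 k * Nat.card (stabilizer M24 s) = 244823040 := by
  have := card_stab_of_orbit (G := M24) (x := s) (S := {t | t.card = k})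
    (fun g => (card_smul_finset _ _).trans hs) h
  rwa [card_M24, show {t : Finset Pt | t.card = k} = (powersetCard k univ : Finset (Finset Pt)) by
    ext; simp, Set.ncard_coe_finset, card_powersetCard, card_univ, card_pt] at this

theorem card_s2 {s : Finset Pt} (hs : s.card = 2) : Nat.card (stabilizer M24 s) = 887040 := by
  have := card_stab_k hs fun t ht => by
    obtain ⟨a, b, hab, rfl⟩ := card_eq_two.1 hs
    obtain ⟨c, d, hcd, rfl⟩ := card_eq_two.1 ht
    obtain ⟨g, rfl, rfl⟩ := std2 hab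
    obtain ⟨h, rfl, rfl⟩ := std2 hcd
    exact ⟨h * g⁻¹, by simp only [smul_finset_insert, smul_finset_singleton, tr2]⟩
  rw [show Nat.choose 24 2 = 276 by decide] at this
  omega

theorem card_s3 {s : Finset Pt} (hs : s.card = 3) : Nat.card (stabilizer M24 s) = 120960 := by
  have := card_stab_k hs fun t ht => by
    obtain ⟨a, b, e, h1, h2, h3, rfl⟩ := card_eq_three.1 hs
    obtain ⟨c, d, f, h4, h5, h6, rfl⟩ := card_eq_three.1 ht
    obtain ⟨g, rfl, rfl, rfl⟩ := std3 (a := a) (b := b) (c := e) (by simp [*])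
    obtain ⟨h, rfl, rfl, rfl⟩ := std3 (a := c) (b := d) (c := f) (by simp [*])
    exact ⟨h * g⁻¹, by simp only [smul_finset_insert, smul_finset_singleton, tr2]⟩
  rw [show Nat.choose 24 3 = 2024 by decide] at this
  omega

theorem card_s4 {s : Finset Pt} (hs : s.card = 4) : Nat.card (stabilizer M24 s) = 23040 := by
  have := card_stab_k hs fun t ht => by
    obtain ⟨g, rfl⟩ := std_tet hs
    obtain ⟨h, rfl⟩ := std_tet ht
    exact ⟨_, tr2⟩
  rw [show Nat.choose 24 4 = 10626 by decide +kernel] at this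
  omega

theorem card_xs {x : Pt} {s : Finset Pt} (hs : s.card = 2) (hx : x ∉ s) :
    Nat.card ↥(stabilizer M24 s ⊓ stabilizer M24 x) = 40320 := by
  have := card_ob (stabilizer M24 s) x
  rw [card_s2 hs, show ob (stabilizer M24 s) x = sᶜ from Finset.ext fun y => by
    rw [mem_ob, mem_compl]
    constructor
    · rintro ⟨g, hg, rfl⟩
      rw [← mem_stabilizer_iff.1 hg, smul_mem_smul_finset_iff]; exact hx
    · intro hy
      obtain ⟨a, b, hab, rfl⟩ := card_eq_two.1 hs
      simp only [mem_insert, mem_singleton, not_or] at hx hy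
      obtain ⟨g, rfl, rfl, rfl⟩ := std3 (a := a) (b := b) (c := x) (by simp [*, eq_comm])
      obtain ⟨h, h1, h2, rfl⟩ := std3 (a := g • pt 23) (b := g • pt 0) (c := y)
        (by simp only [List.nodup_cons, List.mem_cons, List.not_mem_nil, or_false, not_or,
          List.nodup_nil]; exact ⟨⟨hab, Ne.symm hy.1⟩, Ne.symm hy.2, not_false, trivial⟩)
      exact ⟨h * g⁻¹, by
        simp only [mem_stabilizer_iff, smul_finset_insert, smul_finset_singleton, tr2, h1, h2], tr2⟩,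
    card_compl, card_pt, hs] at this
  omega

theorem card_sex {S : Finset (Finset Pt)} (hS : S ∈ sextets) :
    Nat.card (stabilizer M24 S) = 138240 := by
  obtain ⟨g, rfl⟩ := std_sex hS
  rw [← card_stab_sex]
  exact (Nat.card_congr (conjEquiv g fun x => cj_iff g x _ _).toEquiv).symm

theorem good24 {H : Subgroup M24} (h : 1024 ∣ Nat.card H) : ∃ o ∈ octads, EE o ≤ H := by
  obtain ⟨P, h1, h2⟩ := exists_pow (p := 2) (n := 10) h
  obtain ⟨o, ho, h3⟩ := pfix (IsPGroup.of_card h2) (S := octads)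
    (fun g _ x hx => (oct_smul_iff g).2 hx) (by rw [ncard_octads]; norm_num)
  exact ⟨o, ho, (le_of_syl h2 (IsPGroup.of_card (n := 4) (card_EE ho)) (fun g hg => EE_norm o (h3 g hg))
    h3 (EE_le o) (by rw [card_stab_oct ho]; norm_num)).trans h1⟩

theorem ncard_oct_pt (x : Pt) : {o | o ∈ octads ∧ x ∈ o}.ncard = 253 := by
  obtain ⟨g, rfl⟩ := std1 x
  rw [ncard_smul_eq g]
  simp only [Set.mem_setOf_eq, oct_smul_iff, smul_mem_smul_finset_iff]
  rw [ncard_oct (q := fun n => bit n 23) fun n _ => pt23_mem n]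
  decide +kernel

theorem good23 {H : Subgroup M24} {x : Pt} (hx : H ≤ stabilizer M24 x) (h : 128 ∣ Nat.card H) :
    ∃ o ∈ octads, x ∈ o ∧ EE o ≤ H := by
  obtain ⟨P, h1, h2⟩ := exists_pow (p := 2) (n := 7) h
  obtain ⟨o, ho, h3⟩ := pfix (IsPGroup.of_card h2) (S := {o | o ∈ octads ∧ x ∈ o})
    (fun g hg o ho => ⟨(oct_smul_iff g).2 ho.1, by
      rw [← mem_stabilizer_iff.1 (hx (h1 hg))]; exact smul_mem_smul_finset ho.2⟩)
    (by rw [ncard_oct_pt]; norm_num)
  exact ⟨o, ho.1, ho.2, (le_of_syl h2 (IsPGroup.of_card (n := 4) (card_EE ho.1))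
    (fun g hg => EE_norm o (h3 g hg)) (K := stabilizer M24 o ⊓ stabilizer M24 x)
    (fun g hg => ⟨h3 g hg, hx (h1 hg)⟩) (le_inf (EE_le o) fun g hg => mem_EE.1 hg x ho.2)
    (by rw [card_xo ho.1 ho.2]; norm_num)).trans h1⟩

/-- the complement of the long orbit -/
theorem long {H : Subgroup M24} {o : Finset Pt} (ho : o ∈ octads) (hE : EE o ≤ H) :
    ∃ q, (ob H q)ᶜ ⊆ o ∧ 16 ≤ (ob H q : Finset Pt).card := by
  obtain ⟨q, hq⟩ : ∃ q, q ∈ oᶜ := card_pos.1 (by rw [card_compl, ho.2, card_pt]; norm_num)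
  have : oᶜ ⊆ ob H q := fun r hr => by
    obtain ⟨g, hg, e⟩ := EE_trans ho (mem_compl.1 hq) (mem_compl.1 hr)
    exact mem_ob.2 ⟨g, hE hg, e⟩
  refine ⟨q, compl_le_iff_compl_le.1 this, ?_⟩
  have := card_le_card this
  rwa [card_compl, ho.2, card_pt] at this

theorem compl_ob_stab (H : Subgroup M24) (q : Pt) : H ≤ stabilizer M24 (ob H q)ᶜ := fun g hg => by
  rw [mem_stabilizer_iff, smul_compl', ob_inv hg]

theorem m23_cases {H : Subgroup M24} {x : Pt} (hx : H ≤ stabilizer M24 x) (h : Nat.card H = 40320) :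
    (∃ s : Finset Pt, s.card = 2 ∧ x ∉ s ∧ H ≤ stabilizer M24 s) ∨
      ∃ o ∈ octads, x ∈ o ∧ H ≤ stabilizer M24 o := by
  obtain ⟨o, ho, hxo, hE⟩ := good23 hx (by rw [h]; norm_num)
  obtain ⟨q, h1, h2⟩ := long ho hE
  have hs := compl_ob_stab H q
  have hd := ob_dvd H q
  have hc : (ob H q)ᶜ.card = 24 - (ob H q).card := by rw [card_compl, card_pt]
  have hxA : x ∈ (ob H q)ᶜ := mem_compl.2 fun hh => by
    rw [← ob_eq hh] at h2
    have : (ob H x).card ≤ 1 := card_le_one.2 fun a ha b hb => by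
      obtain ⟨g, hg, rfl⟩ := mem_ob.1 ha
      obtain ⟨g', hg', rfl⟩ := mem_ob.1 hb
      rw [hx hg, hx hg']
    omega
  by_cases h5 : 5 ≤ (ob H q)ᶜ.card
  · exact Or.inr ⟨o, ho, hxo, fun g hg => oct_fix ho h1 h5 (hs hg)⟩
  have h0 := card_pos.2 ⟨x, hxA⟩
  rw [h] at hd
  have h3 : (ob H q)ᶜ.card = 3 := by
    by_contra h3
    by_cases h4 : (ob H q)ᶜ.card = 4
    · have := Subgroup.card_dvd_of_le hs
      rw [card_s4 h4, h] at this
      norm_num at this
    · have : (ob H q).card = 23 ∨ (ob H q).card = 22 := by omega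
      rcases this with e | e <;> rw [e] at hd <;> norm_num at hd
  refine Or.inl ⟨(ob H q)ᶜ.erase x, by rw [card_erase_of_mem hxA, h3], notMem_erase _ _,
    fun g hg => ?_⟩
  rw [mem_stabilizer_iff, ← sdiff_singleton_eq_erase, smul_finset_sdiff, hs hg, smul_finset_singleton,
    hx hg]

theorem trans_sex {H : Subgroup M24} (ht : ∀ p q : Pt, ∃ g ∈ H, g • p = q) (h2 : 1024 ∣ Nat.card H)
    (h5 : 5 ∣ Nat.card H) (h11 : ¬ 11 ∣ Nat.card H) (h23 : ¬ 23 ∣ Nat.card H) :
    ∃ S ∈ sextets, H ≤ stabilizer M24 S := by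
  have hc : ∀ p : Pt, 24 * Nat.card ↥(H ⊓ stabilizer M24 p) = Nat.card H := fun p => by
    have := card_ob H p
    rwa [show ob H p = univ from eq_univ_of_forall fun q => mem_ob.2 (ht p q), card_univ,
      card_pt] at this
  have good : ∀ p : Pt, ∃ o ∈ octads, p ∈ o ∧ EE o ≤ H := fun p => by
    obtain ⟨o, ho, h1, h3⟩ := good23 (H := H ⊓ stabilizer M24 p) inf_le_right (by
      have := hc p; omega)
    exact ⟨o, ho, h1, h3.trans inf_le_left⟩
  have lg : ∀ {p : Pt} {o}, o ∈ octads → p ∈ o → EE o ≤ H → ∃ q, sm H 16 p =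
      (ob (H ⊓ stabilizer M24 p) q)ᶜ ∧ sm H 16 p ⊆ o := fun {p o} ho hp hE => by
    obtain ⟨q, h1, h3⟩ := long ho (H := H ⊓ stabilizer M24 p) (le_inf hE fun g hg => mem_EE.1 hg p hp)
    have := sm_eq h3 (by rw [card_pt]; omega)
    exact ⟨q, this, this ▸ h1⟩
  have sub : ∀ {p : Pt} {o}, o ∈ octads → p ∈ o → EE o ≤ H → sm H 16 p ⊆ o := fun ho hp hE =>
    (lg ho hp hE).choose_spec.2
  obtain ⟨a, ha⟩ : ∃ a, ∀ p : Pt, (sm H 16 p).card = a := ⟨_, fun p => by
    obtain ⟨g, hg, rfl⟩ := ht (pt 0) p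
    rw [sm_smul hg, card_smul_finset]⟩
  obtain ⟨y, hy, hy5⟩ := exists_ord (p := 5) (by norm_num) h5
  have y5 : y ^ 5 = 1 := hy5 ▸ pow_orderOf_eq_one y
  have f4 := fx_le (by norm_num) le_rfl hy5
  have f5 := fx_mod (by norm_num) hy5
  have gs : ∀ {o} {g : M24}, g ∈ H → EE o ≤ H → EE (g • o) ≤ H := fun {o g} hg hE x hx => by
    have := hE (EE_conj.1 (show g * (g⁻¹ * x * g) * g⁻¹ ∈ EE (g • o) by simpa [mul_assoc] using hx))
    simpa [mul_assoc] using mul_mem (mul_mem hg this) (inv_mem hg)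
  by_cases a5 : 5 ≤ a
  · exfalso
    have uq : ∀ {p : Pt} {o o'}, o ∈ octads → p ∈ o → EE o ≤ H → o' ∈ octads → p ∈ o' → EE o' ≤ H →
        o = o' := fun {p o o'} ho hp hE ho' hp' hE' => octad_eq ho ho'
      ((ha p ▸ a5 : 5 ≤ (sm H 16 p).card).trans
        (card_le_card (subset_inter (sub ho hp hE) (sub ho' hp' hE'))))
    have k : ∀ p ∈ (fx y : Finset Pt), ∃ o ∈ octads, p ∈ o ∧ EE o ≤ H ∧ y • o = o ∧
        3 ≤ (o ∩ fx y).card := fun p hp => by
      obtain ⟨o, ho, h1, h3⟩ := good p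
      have e := uq ((oct_smul_iff y).2 ho) (mem_fx.1 hp ▸ smul_mem_smul_finset h1) (gs hy h3) ho h1 h3
      have := inv_mod (by norm_num) y5 e
      rw [ho.2, Nat.ModEq] at this
      exact ⟨o, ho, h1, h3, e, by omega⟩
    obtain ⟨p, hp⟩ : (fx y : Finset Pt).Nonempty := card_pos.1 (by omega)
    obtain ⟨o, ho, h1, h3, h4, h6⟩ := k p hp
    have := inv_mod (by norm_num) y5 (A := oᶜ) (by rw [smul_compl', h4])
    rw [card_compl, ho.2, card_pt, Nat.ModEq] at this
    obtain ⟨q, hq⟩ : (oᶜ ∩ fx y).Nonempty := card_pos.1 (by omega)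
    obtain ⟨o', ho', h1', h3', -, h6'⟩ := k q (mem_inter.1 hq).2
    have d : Disjoint (o ∩ fx y) (o' ∩ fx y) := disjoint_left.2 fun r a b =>
      mem_compl.1 (mem_inter.1 hq).1
        (uq ho (mem_inter.1 a).1 h3 ho' (mem_inter.1 b).1 h3' ▸ h1')
    have := card_le_card (union_subset (inter_subset_right (s₁ := o) (s₂ := fx y))
      (inter_subset_right (s₁ := o') (s₂ := fx y)))
    rw [card_union_of_disjoint d] at this
    omega
  have bl : ∀ {p u : Pt}, u ∈ sm H 16 p → sm H 16 u = sm H 16 p :=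
    sm_block (by norm_num) ha (by interval_cases a <;> norm_num)
  have a4 : a = 4 := by
    obtain ⟨o, ho, h1, h3⟩ := good (pt 0)
    obtain ⟨q, e, -⟩ := lg ho h1 h3
    have hd := (ob_dvd (H ⊓ stabilizer M24 (pt 0)) q).trans
      (Subgroup.card_dvd_of_le inf_le_left)
    have e2 := ha (pt 0)
    have e3 := card_pos.2 ⟨_, self_sm (H := H) (n := 16) (by norm_num) (pt 0)⟩
    rw [e, card_compl, card_pt] at e2
    rw [ha] at e3
    by_contra a4
    by_cases a3 : a = 3
    · have := block_fx (by norm_num) ha (by rw [a3]; norm_num) (r := 5) (by norm_num) hy y5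
        (by omega) (by omega)
      omega
    · have : (ob (H ⊓ stabilizer M24 (pt 0)) q).card = 23 ∨
        (ob (H ⊓ stabilizer M24 (pt 0)) q).card = 22 := by omega
      rcases this with e | e <;> rw [e] at hd
      · exact h23 hd
      · exact h11 ((by norm_num : 11 ∣ 22).trans hd)
  subst a4
  have dj : ∀ {p q : Pt}, sm H 16 p ≠ sm H 16 q → Disjoint (sm H 16 p) (sm H 16 q) := fun h =>
    disjoint_left.2 fun r a b => h ((bl a).symm.trans (bl b))
  refine ⟨univ.image (sm H 16), ⟨?_, fun t h => ?_, fun t h u h' ne => ?_⟩, fun g hg => ?_⟩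
  · have := card_blocks (self_sm (by norm_num)) ha fun _ _ => dj
    rw [card_pt] at this
    omega
  · obtain ⟨p, -, rfl⟩ := mem_image.1 h
    exact ha p
  · obtain ⟨p, -, rfl⟩ := mem_image.1 h
    obtain ⟨q, -, rfl⟩ := mem_image.1 h'
    obtain ⟨o, ho, h1, h3⟩ := good p
    obtain ⟨s, e, -⟩ := lg ho h1 h3
    obtain ⟨r, hr, hr'⟩ := exists_mem_notMem_of_card_lt_card (s := sm H 16 p) (t := o)
      (by rw [ha, ho.2]; norm_num)
    have hq : q ∉ sm H 16 p := fun h => ne (bl h).symm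
    rw [e, mem_compl, not_not] at hr' hq
    rw [← ob_eq hr'] at hq
    obtain ⟨g, hg, rfl⟩ := mem_ob.1 hq
    have o1 := (oct_smul_iff g).2 ho
    have : sm H 16 p ∪ sm H 16 (g • r) = g • o := eq_of_subset_of_card_le (union_subset
      (sub o1 (mem_stabilizer_iff.1 hg.2 ▸ smul_mem_smul_finset h1) (gs hg.1 h3))
      (sub o1 (smul_mem_smul_finset hr) (gs hg.1 h3)))
      (by rw [card_union_of_disjoint (dj ne), ha, ha, o1.2])
    rwa [this]
  · rw [mem_stabilizer_iff]
    refine eq_of_subset_of_card_le (fun t h => ?_) (card_smul_finset _ _).ge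
    obtain ⟨u, hu, rfl⟩ := mem_smul_finset.1 h
    obtain ⟨p, -, rfl⟩ := mem_image.1 hu
    exact mem_image.2 ⟨g • p, mem_univ _, sm_smul hg _ _⟩

theorem m24_cases {H : Subgroup M24} (h2 : 1024 ∣ Nat.card H)
    (h5 : 5 ∣ Nat.card H) (h11 : ¬ 11 ∣ Nat.card H) (h23 : ¬ 23 ∣ Nat.card H) :
    (∃ o ∈ octads, H ≤ stabilizer M24 o) ∨ ∃ S ∈ sextets, H ≤ stabilizer M24 S := by
  obtain ⟨o, ho, hE⟩ := good24 h2
  obtain ⟨q, h1, h3⟩ := long ho hE
  have hs := compl_ob_stab H q
  have hd := ob_dvd H q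
  have hc : (ob H q)ᶜ.card = 24 - (ob H q).card := by rw [card_compl, card_pt]
  by_cases a5 : 5 ≤ (ob H q)ᶜ.card
  · exact Or.inl ⟨o, ho, fun g hg => oct_fix ho h1 a5 (hs hg)⟩
  have h4 := h2.trans (Subgroup.card_dvd_of_le hs)
  have a4 : (ob H q)ᶜ.card ≠ 4 := fun e => by rw [card_s4 e] at h4; norm_num at h4
  have a3 : (ob H q)ᶜ.card ≠ 3 := fun e => by rw [card_s3 e] at h4; norm_num at h4
  have a2 : (ob H q).card ≠ 22 := fun e => h11 ((by norm_num : 11 ∣ 22).trans (e ▸ hd))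
  have a1 : (ob H q).card ≠ 23 := fun e => h23 (e ▸ hd)
  have : ob H q = univ := eq_univ_of_card _ (by
    have := card_le_univ (ob H q); rw [card_pt] at *; omega)
  refine Or.inr (trans_sex (fun a b => mem_ob.1 ?_) h2 h5 h11 h23)
  rw [ob_eq (this ▸ mem_univ a : a ∈ ob H q), this]; exact mem_univ b

theorem orb22 {K : Subgroup M24} (h7 : 7 ∣ Nat.card K) (h11 : 11 ∣ Nat.card K)
    (h23 : ¬ 23 ∣ Nat.card K) : ∃ q : Pt, (ob K q).card = 22 ∨ (ob K q).card = 24 := by
  obtain ⟨y, hy, y7⟩ := exists_ord (p := 7) (by norm_num) h7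
  obtain ⟨z, hz, z11⟩ := exists_ord (p := 11) (by norm_num) h11
  have f1 := fx_le (by norm_num) (by norm_num) y7
  have f2 := fx_mod (by norm_num) y7
  have f3 := fx_le (by norm_num) (by norm_num) z11
  have f4 := fx_mod (by norm_num) z11
  obtain ⟨q, -, hq⟩ := exists_mem_notMem_of_card_lt_card (s := fx z) (t := (univ : Finset Pt))
    (by rw [card_univ, card_pt]; omega)
  have b1 := inv_mod (by norm_num) (y7 ▸ pow_orderOf_eq_one y : y ^ 7 = 1) (ob_inv hy q)
  have b2 := inv_mod (by norm_num) (z11 ▸ pow_orderOf_eq_one z : z ^ 11 = 1) (ob_inv hz q)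
  have b3 : ¬ (ob K q).card < 11 := fun h => hq (sub_fx (by norm_num)
    (z11 ▸ pow_orderOf_eq_one z : z ^ 11 = 1) (ob_inv hz q) h (self_ob K q))
  have b4 := card_le_card (inter_subset_right (s₁ := ob K q) (s₂ := fx y))
  have b5 := card_le_card (inter_subset_right (s₁ := ob K q) (s₂ := fx z))
  have b6 := card_le_univ (ob K q)
  have b7 : (ob K q).card ≠ 23 := fun e => h23 (e ▸ ob_dvd K q)
  rw [card_pt] at b6
  rw [Nat.ModEq] at b1 b2
  exact ⟨q, by omega⟩

theorem duad_case {H : Subgroup M24} (h : Nat.card H = 887040) :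
    ∃ s : Finset Pt, s.card = 2 ∧ H ≤ stabilizer M24 s := by
  obtain ⟨q, e | e⟩ := orb22 (K := H) (by rw [h]; norm_num) (by rw [h]; norm_num) (by rw [h]; norm_num)
  · exact ⟨_, by rw [card_compl, card_pt, e], compl_ob_stab H q⟩
  exfalso
  have hu : ob H q = univ := eq_univ_of_card _ (by rw [card_pt, e])
  have hc : ∀ p : Pt, Nat.card ↥(H ⊓ stabilizer M24 p) = 36960 := fun p => by
    have := card_ob H p
    rw [ob_eq (hu ▸ mem_univ p : p ∈ ob H q), e, h] at this
    omega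
  have ha : ∀ p : Pt, (sm H 11 p).card = 2 := fun p => by
    obtain ⟨r, e' | e'⟩ := orb22 (K := H ⊓ stabilizer M24 p) (by rw [hc]; norm_num)
      (by rw [hc]; norm_num) (by rw [hc]; norm_num)
    · rw [sm_eq (q := r) (by omega) (by rw [card_pt]; omega), card_compl, card_pt, e']
    · have := self_sm (H := H) (n := 11) (by norm_num) p
      rw [sm_eq (q := r) (by omega) (by rw [card_pt]; omega),
        eq_univ_of_card _ (e'.trans card_pt.symm)] at this
      simp at this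
  obtain ⟨y, hy, y7⟩ := exists_ord (p := 7) (H := H) (by norm_num) (by rw [h]; norm_num)
  have f1 := fx_le (by norm_num) (by norm_num) y7
  have f2 := fx_mod (by norm_num) y7
  have := block_fx (by norm_num) ha (by norm_num) (r := 7) (by norm_num) hy
    (y7 ▸ pow_orderOf_eq_one y) (by norm_num) (by omega)
  omega

end Cfsg.Agent.MX
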