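/-
Normalisers of subgroups of prime order in the Mathieu groups of degree 22 and 23.
-/
import Cfsg.Agent.MX.B
import Cfsg.Agent.Gol.Simp
import Cfsg.Agent.Gol.Fam2

set_option autoImplicit false

namespace Cfsg.Agent.MX

open Cfsg Cfsg.Agent.Gol Finset MulAction
open scoped Pointwise

abbrev NZ {G : Type*} [Group G] (x : G) : Subgroup G :=
  Subgroup.normalizer (Subgroup.zpowers x : Set G)

theorem mem_NZ {G : Type*} [Group G] [Finite G] {x g : G} :
    g ∈ NZ x ↔ ∃ i < orderOf x, g * x = x ^ i * g := by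
  classical
  constructor
  · intro h
    have := (Subgroup.mem_normalizer_iff.1 h x).1 (Subgroup.mem_zpowers x)
    obtain ⟨i, hi⟩ := (mem_zpowers_iff_mem_range_orderOf).1 this |> mem_image.1
    exact ⟨i, mem_range.1 hi.1, by rw [hi.2]; simp⟩
  · rintro ⟨i, -, e⟩
    refine Subgroup.mem_normalizer_fintype fun n hn => ?_
    obtain ⟨k, rfl⟩ := hn
    have : g * x * g⁻¹ ∈ Subgroup.zpowers x := by
      rw [e, mul_inv_cancel_right]; exact pow_mem (Subgroup.mem_zpowers x) i
    have := zpow_mem this k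
    rwa [conj_zpow] at this

theorem NZ_fix {G X : Type*} [Group G] [Finite G] [MulAction G X] {x g : G} (h : g ∈ NZ x) {a : X}
    (e : x • a = a) : x • g • a = g • a := by
  obtain ⟨i, -, e'⟩ := mem_NZ.1 (inv_mem h)
  have : x * g = g * x ^ i := by
    rw [← mul_left_cancel_iff (a := g⁻¹), ← mul_assoc, e']; simp
  rw [← mul_smul, this, mul_smul, (pow_mem (show x ∈ stabilizer G a from e) i : x ^ i • a = a)]

theorem conj_in {G : Type*} [Group G] [Finite G] {p : ℕ} (hp : p.Prime) {M J : Subgroup G}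
    (hJ : J ≤ M) (h1 : p ∣ Nat.card J) (h2 : ¬ p ^ 2 ∣ Nat.card M) {y : G} (hy : y ∈ M)
    (ho : orderOf y = p) : ∃ J' ≤ M, Nat.card J' = Nat.card J ∧ y ∈ J' := by
  obtain ⟨x, hx, hx'⟩ := exists_ord hp h1
  obtain ⟨g, hg, e⟩ := conj_zp hp (hJ hx) hy hx' ho h2
  refine ⟨J.map (MulAut.conj g).toMonoidHom, ?_, Subgroup.card_map_of_injective
    (MulAut.conj g).injective, ?_⟩
  · rintro _ ⟨a, ha, rfl⟩
    exact mul_mem (mul_mem hg (hJ ha)) (inv_mem hg)
  · have : Subgroup.zpowers (g * x * g⁻¹) = Subgroup.zpowers y :=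
      Subgroup.eq_of_le_of_card_ge (by simpa using e) (by
        rw [Nat.card_zpowers, Nat.card_zpowers, ho, ← hx']
        exact ((MulAut.conj g).orderOf_eq x).ge)
    have h3 : Subgroup.zpowers (g * x * g⁻¹) ≤ J.map (MulAut.conj g).toMonoidHom := by
      rw [Subgroup.zpowers_le]; exact ⟨x, hx, rfl⟩
    exact h3 (this ▸ Subgroup.mem_zpowers y)

noncomputable def cp (c n : ℕ) : ℕ := Nat.rec idc (fun _ ih => force ih (comp c)) n

theorem Rep.pow {c : ℕ} {g : M24} (h : Rep c g) (n : ℕ) : Rep (cp c n) (g ^ n) := by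
  induction n with
  | zero => rw [pow_zero]; exact rep_one
  | succ n ih =>
    rw [pow_succ', show cp c (n + 1) = force (cp c n) (comp c) from rfl, force_eq]
    exact h.mul ih

theorem ord_of {c p : ℕ} {g : M24} (h : Rep c g) (hp : p.Prime) (e : cp c p = idc) {i : ℕ}
    (hi : i < 24) (e' : ap c i ≠ i) : orderOf g = p := by
  have := Fact.mk hp
  exact orderOf_eq_prime ((Rep.pow h p).eq (e ▸ rep_one)) (h.ne_one hi e')

noncomputable def nzq (x n c : ℕ) : Bool :=
  force (comp c x) fun a => nany (fun i => Nat.beq a (comp (cp x i) c)) n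

theorem nzq_of {x n : ℕ} (hx : inM x = true) (ho : orderOf (pm x) = n) {g : M24} (hg : g ∈ NZ (pm x))
    {c : ℕ} (h : Rep c g) : nzq x n c = true := by
  obtain ⟨i, hi, e⟩ := mem_NZ.1 hg
  rw [nzq, force_eq, nany_iff]
  exact ⟨i, ho ▸ hi, Nat.beq_eq ▸ comp_eq_of_rep (h.mul (rep_pm hx))
    (e ▸ (Rep.pow (rep_pm hx) i).mul h)⟩

theorem nz_of {x n c : ℕ} (hx : inM x = true) (hc : inM c = true) (ho : orderOf (pm x) = n)
    (h : nzq x n c = true) : pm c ∈ NZ (pm x) := by
  rw [nzq, force_eq, nany_iff] at h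
  obtain ⟨i, hi, e⟩ := h
  exact mem_NZ.2 ⟨i, ho ▸ hi, rep_eq_of_comp ((rep_pm hc).mul (rep_pm hx))
    ((Rep.pow (rep_pm hx) i).mul (rep_pm hc)) (Nat.eq_of_beq_eq_true e)⟩

theorem card_gs {gens : List ℕ} {n : ℕ} {ls : List Lev}
    (h : enumG gens (fun l => bif' (Nat.beq (lcnt (fun _ => true) l) n) true false) = true)
    (h2 : lowOk ls 0 = true) (h3 : headGens ls = gens) (h4 : (ls.map fun l => pc l.n).prod = n) :
    Nat.card (gsub gens) = n :=
  le_antisymm (card_gsub_le (k := fun _ => true) h) (by rw [← h3, ← h4]; exact lowOk_sound h2)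

def cX : ℕ := 956302485175575353788796878166559809
def cY : ℕ := 983435072843990828779021698901151808
def cZ : ℕ := 974380510768821363662145534143076928
def cU : ℕ := 973892032236756196042471490984576576
def cI : ℕ := 1795248432537898728475572672376535

theorem inX : inM cX = true := by decide +kernel
theorem inY : inM cY = true := by decide +kernel
theorem inZ : inM cZ = true := by decide +kernel
theorem inU : inM cU = true := by decide +kernel
theorem inI : inM cI = true := by decide +kernel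

theorem ordX : orderOf (pm cX) = 23 :=
  ord_of (rep_pm inX) (by norm_num) (by decide +kernel) (i := 1) (by norm_num) (by decide +kernel)
theorem ordY : orderOf (pm cY) = 11 :=
  ord_of (rep_pm inY) (by norm_num) (by decide +kernel) (i := 1) (by norm_num) (by decide +kernel)
theorem ordZ : orderOf (pm cZ) = 5 :=
  ord_of (rep_pm inZ) (by norm_num) (by decide +kernel) (i := 2) (by norm_num) (by decide +kernel)

theorem card55 : Nat.card (gsub [cY, cZ]) = 55 := card_gs (ls := [⟨[cY, cZ], [], [], 1, 340830, [[0, 1, 1]]⟩,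
  ⟨[968955966875123533138286166201145376], [], [], 2, 66372, []⟩]) (by decide +kernel)
  (by decide +kernel) rfl (by decide +kernel)

theorem card20 : Nat.card (gsub [cZ, cU]) = 20 := card_gs (ls := [⟨[cZ, cU], [], [], 5, 3225504, [[0, 1, 1]]⟩,
  ⟨[969958826742993894265839954570609728], [], [], 1, 6, []⟩]) (by decide +kernel)
  (by decide +kernel) rfl (by decide +kernel)

theorem card253 : Nat.card (gsub [cX, cY]) = 253 := card_gs (ls := [⟨[cX, cY], [], [], 0, 8388607, [[1, 1, 1, 1, 1, 1, 1, 1]]⟩,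
  ⟨[982051901153124072706648311500937312], [], [], 1, 340830, []⟩]) (by decide +kernel)
  (by decide +kernel) rfl (by decide +kernel)

theorem l211_eq : St 8388609 [340831] = gsub [984364100877017018377366138430633472, 975428656416826092113382083424498944] :=
  eq_gsub_of_low (ls := [⟨[984364100877017018377366138430633472, 975428656416826092113382083424498944], [], [], 1, 340830, [[1, 1, 1, 0], [0, 1, 1, 1, 1, 1, 1, 1, 0]]⟩,
  ⟨[978320980801228321302614373466121248, 970254267632540392332329984955992096], [], [], 2, 340828, [[0, 1, 0, 1, 1], [0, 1, 1, 0, 1, 1, 1, 0, 1, 1]]⟩,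
  ⟨[970499966350631336865513127433832480, 970254902120350598020240965873371168], [], [], 4, 340240, []⟩])
  (by decide +kernel) (gsub_le_St (by decide +kernel)) (by rw [card_l211]; decide +kernel)

theorem dod_chk' : lall (fun n => bif' (Nat.beq (img cY n) n) (bif' (bit n 0) (bif' (bit n 23) true
    (Nat.beq n 340831)) true) true) dodL = true := by decide +kernel

theorem nY : St 8388609 [] ⊓ NZ (pm cY) ≤ gsub [cY, cZ] := by
  refine le_gsub_of_enum (q := nzq cY 11) (le_trans (b := St 8388609 [340831])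
    (fun g hg => mem_St.2 ⟨hg.1.1, ?_⟩) l211_eq.le)
    (fun g hg c h => nzq_of inY ordY hg.2 h) (by decide +kernel)
  have h1 := NZ_fix hg.2 (a := toF 340831) (by rw [pm_smul inY]; decide +kernel)
  obtain ⟨n, hn, e⟩ := dodecads_iff.1 ((dod_smul_iff g).2 D0_mem)
  have h2 := lall_iff.1 dod_chk' n hn
  have a0 : g • pt 0 = pt 0 := hg.1.1 _ (by decide +kernel)
  have a23 : g • pt 23 = pt 23 := hg.1.1 _ (by decide +kernel)
  rw [← e, pm_smul inY] at h1
  have b0 : bit n 0 = true := by
    rw [← pt0_mem, e, ← a0, smul_mem_smul_finset_iff]; decide +kernel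
  have b23 : bit n 23 = false := by
    rw [← Bool.not_eq_true, ← pt23_mem, e, ← a23, smul_mem_smul_finset_iff]; decide +kernel
  rw [toF_inj (img_lt (inM_ok inY) n) (dodL_lt hn) h1, Nat.beq_refl, b0, b23] at h2
  simp only [bif'_true, bif'_false, Nat.beq_eq] at h2
  simp only [List.mem_singleton, forall_eq]
  rw [← e, h2]

theorem card_m20 : Nat.card (St 8388615 []) = 960 :=
  card_St_chain (steps := m24Steps) (ls := m24Chain.drop 4) (by decide +kernel) (by decide)

theorem toF_g4 : toF 8421385 = {pt 23, pt 0, pt 3, pt 15} := by decide +kernel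

theorem m20_eq : St 8421385 [] = gsub [958517148222765710733150915305524576, 962649132442570006343930691153156384] :=
  eq_gsub_of_low (ls := [⟨[958517148222765710733150915305524576, 962649132442570006343930691153156384], [], [], 1, 8355830, [[1, 1, 0, 1, 1, 0, 0, 1, 0, 0, 1], [0, 1, 0, 0, 1, 1, 0, 1, 1, 0, 1], [0, 1, 0, 0, 1, 1, 1, 0, 1, 1, 0, 0, 1, 1]]⟩,
  ⟨[971863989228759034920585190470420512, 971859952550510137308573457799293984, 971868743779271936496108355381742624], [], [], 2, 2060276, [[0]]⟩,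
  ⟨[971863989228759034920585190470420512], [], [], 4, 262224, []⟩])
  (by decide +kernel) (gsub_le_St (by decide +kernel)) (by
    obtain ⟨g, h1, h2, h3, h4⟩ := std4 (a := pt 23) (b := pt 0) (c := pt 3) (d := pt 15) (by decide +kernel)
    rw [← Nat.card_congr (conjEquiv g (K := St 8388615 []) fun x => by
      simp only [mem_St, toF_f4, toF_g4, mem_insert, mem_singleton, forall_eq_or_imp, forall_eq]
      conv_lhs => rw [← h4, ← h3, ← h2, ← h1]
      simp only [cj_iff, List.not_mem_nil, false_imp_iff, implies_true]).toEquiv, card_m20]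
    decide +kernel)

theorem nZ0 : St 8421385 [] ⊓ NZ (pm cZ) ≤ gsub [cZ, cU] :=
  le_gsub_of_enum (q := nzq cZ 5) (inf_le_left.trans m20_eq.le)
    (fun _ hg _ h => nzq_of inZ ordZ hg.2 h) (by decide +kernel)

theorem fxZ : ∀ p, pm cZ • p = p → p = pt 23 ∨ p = pt 0 ∨ p = pt 3 ∨ p = pt 15 := by
  simp only [pm_smul_pt inZ]; decide +kernel

theorem nZ : St 8388609 [] ⊓ NZ (pm cZ) ≤ gsub [cZ, cU] := by
  have k : ∀ g ∈ St 8388609 [] ⊓ NZ (pm cZ), g • pt 3 = pt 3 → g ∈ gsub [cZ, cU] := fun g hg e => by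
    have a0 : g • pt 0 = pt 0 := hg.1.1 _ (by decide +kernel)
    have a23 : g • pt 23 = pt 23 := hg.1.1 _ (by decide +kernel)
    refine nZ0 ⟨⟨?_, by simp⟩, hg.2⟩
    simp only [toF_g4, mem_insert, mem_singleton, forall_eq_or_imp, forall_eq]
    refine ⟨a23, a0, e, ?_⟩
    rcases fxZ _ (NZ_fix hg.2 (a := pt 15) (by rw [pm_smul_pt inZ]; decide +kernel)) with h | h | h | h
    · exact absurd (MulAction.injective g (h.trans a23.symm)) (by decide +kernel)
    · exact absurd (MulAction.injective g (h.trans a0.symm)) (by decide +kernel)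
    · exact absurd (MulAction.injective g (h.trans e.symm)) (by decide +kernel)
    · exact h
  intro g hg
  have a0 : g • pt 0 = pt 0 := hg.1.1 _ (by decide +kernel)
  have a23 : g • pt 23 = pt 23 := hg.1.1 _ (by decide +kernel)
  rcases fxZ _ (NZ_fix hg.2 (a := pt 3) (by rw [pm_smul_pt inZ]; decide +kernel)) with h | h | h | h
  · exact absurd (MulAction.injective g (h.trans a23.symm)) (by decide +kernel)
  · exact absurd (MulAction.injective g (h.trans a0.symm)) (by decide +kernel)
  · exact k g hg h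
  · have hu : pm cU ∈ St 8388609 [] ⊓ NZ (pm cZ) :=
      ⟨pm_mem_St (by decide +kernel), nz_of inZ inU ordZ (by decide +kernel)⟩
    have := k _ (mul_mem hu hg) (by rw [mul_smul, h, pm_smul_pt inU]; decide +kernel)
    exact (mul_mem_cancel_left (pm_mem_gsub (by simp))).1 this

theorem m22_sub {J : Subgroup M24} (hJ : J ≤ St 8388609 []) :
    Nat.card J ≠ 7920 ∧ Nat.card J ≠ 2112 := by
  have k : 11 ∣ Nat.card J → ∃ J' ≤ St 8388609 [], Nat.card J' = Nat.card J ∧ pm cY ∈ J' ∧
      ∃ k, k ≡ 1 [MOD 11] ∧ (k * 11 = Nat.card J ∨ k * 55 = Nat.card J ∧ pm cZ ∈ J') := fun h => by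
    obtain ⟨J', h1, h2, h3⟩ := conj_in (p := 11) (by norm_num) hJ h (by rw [card_m22]; norm_num)
      (y := pm cY) (pm_mem_St (by decide +kernel)) ordY
    refine ⟨J', h1, h2, h3, ?_⟩
    obtain ⟨k, a, b⟩ := syl_count (by norm_num) h3 ordY fun h =>
      absurd (h.trans (Subgroup.card_dvd_of_le h1)) (by rw [card_m22]; norm_num)
    have c : J' ⊓ NZ (pm cY) ≤ gsub [cY, cZ] := (inf_le_inf_right _ h1).trans nY
    have d := Subgroup.card_dvd_of_le c
    have e := (J' ⊓ NZ (pm cY)).orderOf_dvd_natCard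
      ⟨h3, Subgroup.le_normalizer (Subgroup.mem_zpowers _)⟩
    rw [card55] at d
    rw [ordY] at e
    have f := Nat.le_of_dvd (by norm_num) d
    have : Nat.card ↥(J' ⊓ NZ (pm cY)) = 11 ∨ Nat.card ↥(J' ⊓ NZ (pm cY)) = 55 := by
      generalize Nat.card ↥(J' ⊓ NZ (pm cY)) = n at *
      obtain ⟨m, rfl⟩ := e
      have : m ≤ 5 := by omega
      interval_cases m <;> first | omega | norm_num at d
    refine ⟨k, a, this.imp (fun e => by rw [← h2, ← b, e]) fun e => ⟨by rw [← h2, ← b, e], ?_⟩⟩
    have := Subgroup.eq_of_le_of_card_ge c (by rw [card55, e])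
    exact (this.ge (pm_mem_gsub (by simp))).1
  constructor
  · intro h
    obtain ⟨J', h1, h2, h3, k, a, b | ⟨-, b⟩⟩ := k (by rw [h]; norm_num)
    · rw [Nat.ModEq] at a; omega
    obtain ⟨k, a, e⟩ := syl_count (by norm_num) b ordZ (by rw [h2, h]; norm_num)
    have c : J' ⊓ NZ (pm cZ) ≤ gsub [cZ, cU] := (inf_le_inf_right _ h1).trans nZ
    have d := Subgroup.card_dvd_of_le c
    have e' := (J' ⊓ NZ (pm cZ)).orderOf_dvd_natCard
      ⟨b, Subgroup.le_normalizer (Subgroup.mem_zpowers _)⟩
    rw [card20] at d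
    rw [ordZ] at e'
    have f := Nat.le_of_dvd (by norm_num) d
    rw [h2, h] at e
    have : Nat.card ↥(J' ⊓ NZ (pm cZ)) = 20 := by
      generalize Nat.card ↥(J' ⊓ NZ (pm cZ)) = n at *
      obtain ⟨m, rfl⟩ := e'
      have : m ≤ 4 := by omega
      rw [Nat.ModEq] at a
      interval_cases m <;> omega
    have hU := ((Subgroup.eq_of_le_of_card_ge c (by rw [card20, this])).ge
      (pm_mem_gsub (c := cU) (by simp))).1
    have := J'.orderOf_dvd_natCard (mul_mem hU h3)
    rw [ord_of ((rep_pm inU).mul (rep_pm inY)) (p := 7) (by norm_num) (by decide +kernel) (i := 2)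
      (by norm_num) (by decide +kernel), h2, h] at this
    norm_num at this
  · intro h
    obtain ⟨J', h1, h2, h3, k, a, b | ⟨b, -⟩⟩ := k (by rw [h]; norm_num) <;>
      rw [Nat.ModEq] at a <;> omega

end Cfsg.Agent.MX
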