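/-
The projective special linear group over the integers modulo 23 inside the Mathieu group.
-/
import Cfsg.Agent.MX.C

set_option autoImplicit false

namespace Cfsg.Agent.MX

open Cfsg Cfsg.Agent.Gol Finset MulAction
open scoped Pointwise

noncomputable def cM (i : ℕ) : ℕ :=
  pack 5 (fun j => bif' (Nat.blt j 23) (Nat.mod (Nat.mul i j) 23) 23) 24

theorem ap_cM : ∀ i < 23, ∀ j < 24, ap (cM i) j = if j < 23 then i * j % 23 else 23 := by
  decide +kernel

theorem X_pt : ∀ k < 23, pm cX • pt k = pt ((k + 1) % 23) := by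
  simp only [pm_smul_pt inX]; decide +kernel

theorem X_pow (i : ℕ) {k : ℕ} (hk : k < 23) : pm cX ^ i • pt k = pt ((k + i) % 23) := by
  induction i with
  | zero => rw [pow_zero, one_smul, add_zero, Nat.mod_eq_of_lt hk]
  | succ i ih => rw [pow_succ', mul_smul, ih, X_pt _ (Nat.mod_lt _ (by norm_num)), Nat.mod_add_mod,
      add_assoc]

theorem cM_chk : nall (fun i => bif' (nany (fun k => Nat.beq (cp cY k) (cM i)) 11) true
    (force (img (cM i) 340831) fun n => bif' (Nat.blt n 16777216) (!isCW n) false)) 23 = true := by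
  decide +kernel

theorem nX0 {g : M24} (h23 : g • pt 23 = pt 23) (h0 : g • pt 0 = pt 0) (hg : g ∈ NZ (pm cX)) :
    g ∈ gsub [cX, cY] := by
  obtain ⟨i, hi, e⟩ := mem_NZ.1 hg
  rw [ordX] at hi
  have k : ∀ j < 23, g • pt j = pt (i * j % 23) := fun j hj => by
    induction j with
    | zero => exact h0
    | succ j ih =>
      have := X_pt j (by omega)
      rw [Nat.mod_eq_of_lt hj] at this
      rw [← this, ← mul_smul, e, mul_smul, ih (by omega), X_pow _ (Nat.mod_lt _ (by norm_num)),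
        Nat.mod_add_mod, mul_add, mul_one]
  have r : Rep (cM i) g := fun j hj => by
    rw [ap_cM i hi j hj]
    split_ifs with h
    · exact ⟨(Nat.mod_lt _ (by norm_num)).trans (by norm_num), k j h⟩
    · rw [show j = 23 by omega]; exact ⟨by norm_num, h23⟩
  have := nall_iff.1 cM_chk i hi
  rw [bif'_eq, force_eq] at this
  split_ifs at this with h
  · obtain ⟨k, -, e⟩ := nany_iff.1 h
    rw [r.eq (Nat.eq_of_beq_eq_true e ▸ Rep.pow (rep_pm inY) k)]
    exact pow_mem (pm_mem_gsub (by simp)) k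
  · rw [bif_and'] at this
    have h2 := (cw_toF_iff (by simpa using this.1)).1 (r.smul _ ▸ (dod_cw D0_mem).smul g)
    rw [h2] at this
    simp at this

theorem F_le : gsub [cX, cY] ≤ stabilizer M24 (pt 23) ⊓ NZ (pm cX) := gsub_le fun c hc => by
  simp only [List.mem_cons, List.not_mem_nil, or_false] at hc
  rcases hc with rfl | rfl
  · exact Subgroup.mem_inf.2 ⟨by rw [mem_stabilizer_iff, pm_smul_pt inX]; decide +kernel,
      Subgroup.le_normalizer (Subgroup.mem_zpowers _)⟩
  · exact Subgroup.mem_inf.2 ⟨by rw [mem_stabilizer_iff, pm_smul_pt inY]; decide +kernel,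
      nz_of inX inY ordX (by decide +kernel)⟩

theorem pt_cases : ∀ p : Pt, p = pt 23 ∨ ∃ k < 23, pt ((idx p + k) % 23) = pt 0 ∧ idx p < 23 := by
  decide +kernel

theorem nX : stabilizer M24 (pt 23) ⊓ NZ (pm cX) ≤ gsub [cX, cY] := fun g hg => by
  have h23 : g • pt 23 = pt 23 := hg.1
  rcases pt_cases (g • pt 0) with h | ⟨k, -, h, h'⟩
  · exact absurd (MulAction.injective g (h.trans h23.symm)) (by decide +kernel)
  have hx : pm cX ^ k ∈ gsub [cX, cY] := pow_mem (pm_mem_gsub (by simp)) k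
  have h1 := mul_mem (F_le hx) hg
  exact (mul_mem_cancel_left hx).1 (nX0 h1.1 (by rw [mul_smul, ← pt_idx (g • pt 0), X_pow k h', h]) h1.2)

theorem fxY : ∀ p, pm cY • p = p → p = pt 23 ∨ p = pt 0 := by
  simp only [pm_smul_pt inY]; decide +kernel

theorem div_chk : nall (fun m => bif' (Nat.beq (Nat.mod 40320 m) 0) (bif' (Nat.beq (Nat.mod m 23) 1)
    (bif' (Nat.beq m 1) true (bif' (Nat.beq m 70) true (bif' (Nat.beq m 24) true
      (bif' (Nat.beq m 576) true (Nat.beq m 1680))))) true) true) 40320 = true := by decide +kernel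

theorem F_max {J : Subgroup M24} (h1 : gsub [cX, cY] ≤ J) (h2 : J ≤ stabilizer M24 (pt 23)) :
    J = gsub [cX, cY] ∨ J = stabilizer M24 (pt 23) := by
  have hd := Subgroup.card_dvd_of_le h2
  rw [card_stab_pt] at hd
  obtain ⟨m, a, b⟩ := syl_count (by norm_num) (h1 (pm_mem_gsub (by simp))) ordX fun h =>
    absurd (h.trans hd) (by norm_num)
  rw [show J ⊓ NZ (pm cX) = gsub [cX, cY] from le_antisymm ((inf_le_inf_right _ h2).trans nX)
    (le_inf h1 (F_le.trans inf_le_right)), card253] at b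
  have h3 : pm cY ∈ J := h1 (pm_mem_gsub (by simp))
  obtain ⟨k, a', b'⟩ := syl_count (by norm_num) h3 ordY fun h => absurd (h.trans hd) (by norm_num)
  have c : J ⊓ NZ (pm cY) ≤ gsub [cY, cZ] := fun g hg => nY ⟨mem_St.2 ⟨by
    have h23 : g • pt 23 = pt 23 := h2 hg.1
    simp only [toF_f2, mem_insert, mem_singleton, forall_eq_or_imp, forall_eq]
    refine ⟨h23, (fxY _ (NZ_fix hg.2 (a := pt 0)
      (by rw [pm_smul_pt inY]; decide +kernel))).resolve_left fun h => ?_⟩
    exact absurd (MulAction.injective g (h.trans h23.symm)) (by decide +kernel), by simp⟩, hg.2⟩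
  have d := Subgroup.card_dvd_of_le c
  have e := (J ⊓ NZ (pm cY)).orderOf_dvd_natCard
    ⟨h3, Subgroup.le_normalizer (Subgroup.mem_zpowers _)⟩
  rw [card55] at d
  rw [ordY] at e
  have f := Nat.le_of_dvd (by norm_num) d
  have n : Nat.card ↥(J ⊓ NZ (pm cY)) = 11 ∨ Nat.card ↥(J ⊓ NZ (pm cY)) = 55 := by
    generalize Nat.card ↥(J ⊓ NZ (pm cY)) = n at *
    obtain ⟨m, rfl⟩ := e
    have : m ≤ 5 := by omega
    interval_cases m <;> first | omega | norm_num at d
  have hm : m ∣ 40320 := Nat.dvd_of_mul_dvd_mul_right (show 0 < 253 by norm_num) (by rw [b]; exact hd)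
  rcases (Nat.le_of_dvd (by norm_num) hm).lt_or_eq with hl | rfl
  · have := nall_iff.1 div_chk m hl
    rw [show Nat.mod 40320 m = 0 from Nat.mod_eq_zero_of_dvd hm, show Nat.mod m 23 = 1 from a] at this
    simp only [Nat.beq_refl, bif'_true, bif'_eq, Nat.beq_eq] at this
    rw [Nat.ModEq] at a'
    have : m = 1 ∨ m = 70 ∨ m = 24 ∨ m = 576 ∨ m = 1680 := by
      by_contra h
      simp only [not_or] at h
      simp [h] at this
    have : m = 1 := by
      rcases n with n | n <;> rw [n] at b' <;> rcases this with rfl | rfl | rfl | rfl | rfl <;> omega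
    exact Or.inl (Subgroup.eq_of_le_of_card_ge h1 (by rw [card253]; omega)).symm
  · exact Or.inr (Subgroup.eq_of_le_of_card_ge h2 (by rw [card_stab_pt]; omega))

theorem K_chk : enumG [cX, cI] (fun l => bif' (Nat.beq (lcnt (fun _ => true) l) 6072) true false) =
    true := by decide +kernel

theorem F_le_K : gsub [cX, cY] ≤ gsub [cX, cI] :=
  wordsOk_sound (W := [[0], [0, 0, 0, 0, 0, 0, 0, 1, 0, 0, 1, 0, 0, 0, 1, 0, 0, 0, 0, 0, 1, 0]])
    (by decide +kernel)

theorem K_orb {J : Subgroup M24} (h : gsub [cX, cI] ≤ J) :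
    24 * Nat.card ↥(J ⊓ stabilizer M24 (pt 23)) = Nat.card J := by
  have := card_ob J (pt 23)
  rwa [show ob J (pt 23) = univ from eq_univ_of_forall fun p => by
    obtain ⟨g, hg, e⟩ := (covP_gsub (f := 0) (E := []) (gens := [cX, cI]) (b := 23) (m := 16777215)
      (by decide +kernel)).2 p (by rw [toF_ones]; exact mem_univ _)
    exact mem_ob.2 ⟨g, h hg, e⟩, card_univ, card_pt] at this

theorem card6072 : Nat.card (gsub [cX, cI]) = 6072 := by
  have h1 := card_gsub_le (k := fun _ => true) K_chk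
  have h2 := K_orb le_rfl
  have h3 := Subgroup.card_le_of_le (le_inf F_le_K (F_le.trans inf_le_left))
  rw [card253] at h3
  omega

theorem K_max : IsCoatom (gsub [cX, cI]) := by
  refine ⟨fun h => ?_, fun J hJ => ?_⟩
  · have := card6072
    rw [h, Subgroup.card_top, card_M24] at this
    omega
  have h2 := K_orb hJ.le
  rcases F_max (le_inf (F_le_K.trans hJ.le) (F_le.trans inf_le_left)) inf_le_right with e | e
  · rw [e, card253] at h2
    exact absurd (Subgroup.eq_of_le_of_card_ge hJ.le (by rw [card6072]; omega)) hJ.ne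
  · rw [e, card_stab_pt] at h2
    exact Subgroup.eq_top_of_card_eq _ (by rw [card_M24]; omega)

theorem F_coatom : IsCoatom ((gsub [cX, cY]).subgroupOf (stabilizer M24 (pt 23))) := by
  have hF := F_le.trans inf_le_left
  refine ⟨fun h => ?_, fun J hJ => ?_⟩
  · have := Subgroup.card_le_of_le (Subgroup.subgroupOf_eq_top.1 h)
    rw [card253, card_stab_pt] at this
    omega
  rcases F_max (J := J.map (Subgroup.subtype _)) (by
    rw [← Subgroup.map_subgroupOf_eq_of_le hF]; exact Subgroup.map_mono hJ.le)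
    (Subgroup.map_subtype_le _) with e | e
  · refine absurd ?_ hJ.ne
    rw [← e, Subgroup.subgroupOf, Subgroup.comap_map_eq_self_of_injective (Subgroup.subtype_injective _)]
  · apply Subgroup.map_injective (Subgroup.subtype_injective _)
    rw [e, ← MonoidHom.range_eq_map, Subgroup.range_subtype]

abbrev sqs : Set (Equiv.Perm Pt) :=
  {g | ∃ u : (ZMod 23)ˣ, IsSquare u ∧ g = Equiv.optionCongr (Units.mulLeft u)}

theorem sq_chk : ∀ r : ZMod 23, r ≠ 0 → ∃ k < 11, ∀ p : Pt,
    pt (ap (cp cY k) (idx p)) = Option.map (fun x => r * r * x) p := by decide +kernel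

theorem sq_pow {g : Equiv.Perm Pt} (h : g ∈ sqs) : ∃ k, g = (pm cY ^ k : M24) := by
  obtain ⟨_, ⟨r, rfl⟩, rfl⟩ := h
  obtain ⟨k, -, e⟩ := sq_chk r fun h => absurd (h ▸ r.val_inv) (by rw [zero_mul]; decide)
  refine ⟨k, Equiv.ext fun p => ?_⟩
  have := (Rep.pow (rep_pm inY) k _ (idx_lt p)).2
  rw [pt_idx, e] at this
  exact this.symm

theorem Y_sq : (pm cY : Equiv.Perm Pt) ∈ sqs := by
  let r : (ZMod 23)ˣ := ⟨5, 14, by decide, by decide⟩
  exact ⟨r * r, ⟨r, rfl⟩, pm_ext inY (by decide +kernel)⟩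

theorem cl_F : Subgroup.closure ({Equiv.optionCongr (Equiv.addRight (1 : ZMod 23))} ∪ sqs) =
    (gsub [cX, cY]).map M24.subtype := by
  refine le_antisymm ((Subgroup.closure_le _).2 ?_) (Subgroup.map_le_iff_le_comap.2 (gsub_le ?_))
  · rintro g (rfl | h)
    · exact ⟨pm cX, pm_mem_gsub (by simp), pm_add⟩
    · obtain ⟨k, rfl⟩ := sq_pow h
      exact ⟨_, pow_mem (pm_mem_gsub (by simp)) k, rfl⟩
  · simp only [List.mem_cons, List.not_mem_nil, or_false, forall_eq_or_imp, forall_eq]
    exact ⟨Subgroup.subset_closure (Or.inl pm_add), Subgroup.subset_closure (Or.inr Y_sq)⟩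

theorem cl_K : Subgroup.closure ({Equiv.optionCongr (Equiv.addRight (1 : ZMod 23)), projInv} ∪ sqs) =
    (gsub [cX, cI]).map M24.subtype := by
  refine le_antisymm ((Subgroup.closure_le _).2 ?_) (Subgroup.map_le_iff_le_comap.2 (gsub_le ?_))
  · rintro g ((rfl | rfl) | h)
    · exact ⟨pm cX, pm_mem_gsub (by simp), pm_add⟩
    · exact ⟨pm cI, pm_mem_gsub (by simp), pm_inv⟩
    · obtain ⟨k, rfl⟩ := sq_pow h
      exact ⟨_, pow_mem (F_le_K (pm_mem_gsub (by simp))) k, rfl⟩
  · simp only [List.mem_cons, List.not_mem_nil, or_false, forall_eq_or_imp, forall_eq]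
    exact ⟨Subgroup.subset_closure (Or.inl (Or.inl pm_add)),
      Subgroup.subset_closure (Or.inl (Or.inr pm_inv))⟩

end Cfsg.Agent.MX
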