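/-
Minimal vectors orthogonal to a standard one, counted by shape.
-/
import Cfsg.Agent.Lee.Min

set_option autoImplicit false

namespace Cfsg.Agent.MX

open Cfsg Cfsg.Agent.Gol Cfsg.Agent.Lee Finset

noncomputable def cN (e : ℕ) : ℕ := force (dg e 23) fun d =>
  bif' (Nat.beq (Nat.add d (dg e 0)) 16) (bif' (Nat.beq (Nat.mod d 2) 1) 2
    (bif' (Nat.beq (Nat.mod d 4) 2) 1 (bif' (Nat.beq d 8)
      (bif' (nall (fun i => Nat.beq (Nat.mod (dg e i) 4) 0) 24) 3 4) 0))) 5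

theorem cN_chk : Nat.shiftRight (minS fun n =>
    Nat.succ (Nat.shiftLeft 1048576 (Nat.mul 20 (cN (uns n))))) 20 =
    2 + 4928 * 2 ^ 20 + 45056 * 2 ^ 40 + 924 * 2 ^ 60 + 42240 * 2 ^ 80 + 103410 * 2 ^ 100 := by
  decide +kernel

theorem cov_out2 : covS 8388609 [] g22 10558 (fun n => !bit n 23 && !bit n 0) octL = true := by
  decide +kernel

theorem sgn_chk : subL (subsL [13, 11, 8, 5, 4, 3, 2, 1] 0 ++ subsL [13, 11, 8, 5, 4, 3, 2, 1] 2 ++
    subsL [13, 11, 8, 5, 4, 3, 2, 1] 4 ++ subsL [13, 11, 8, 5, 4, 3, 2, 1] 6 ++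
    subsL [13, 11, 8, 5, 4, 3, 2, 1] 8) ((List.range 4096).map fun k => Nat.land (cw k) 8399167) =
    true := by decide +kernel

end Cfsg.Agent.MX
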