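/-
The monomial group is maximal in the automorphism group of the rank-24 lattice.
-/
import Cfsg.Agent.MX.L1
import Cfsg.Agent.Gol.Sex

set_option autoImplicit false

namespace Cfsg.Agent.MX

open Cfsg Cfsg.Agent.Gol Cfsg.Agent.Lee Finset MulAction
open scoped Pointwise symmDiff

theorem pq_out {o : Finset GolayPt} (ho : o ∈ octads) {p q : GolayPt} (hpq : p ≠ q) (hp : p ∉ o)
    (hq : q ∉ o) : ∃ g : M24, g • pt 23 = p ∧ g • pt 0 = q ∧ g • toF 10558 = o := by
  obtain ⟨g, rfl, rfl⟩ := std2 hpq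
  obtain ⟨o, rfl⟩ := ex_smul g o
  obtain ⟨n, hn, rfl⟩ := octads_iff.1 ((oct_smul_iff g).1 ho)
  rw [smul_mem_smul_finset_iff, pt23_mem] at hp
  rw [smul_mem_smul_finset_iff, pt0_mem] at hq
  obtain ⟨g', h1, -, h2⟩ := cov_pull cov_out2 g hn (by simp [hp, hq])
  exact ⟨g', h1 _ (by decide +kernel), h1 _ (by decide +kernel), h2⟩

theorem sgn10 {o s : Finset GolayPt} (ho : o ∈ octads) {p q : GolayPt} (hpq : p ≠ q) (hp : p ∉ o)
    (hq : q ∉ o) (hs : s ⊆ o) (he : s.card % 2 = 0) : ∃ c, CW c ∧ c ∩ o = s ∧ p ∉ c ∧ q ∉ c := by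
  obtain ⟨g, rfl, rfl, rfl⟩ := pq_out ho hpq hp hq
  obtain ⟨s, rfl⟩ := ex_smul g s
  rw [smul_finset_subset_smul_finset_iff] at hs
  rw [card_smul_finset] at he
  have h8 := card_le_card hs
  rw [show (toF 10558).card = 8 by decide +kernel] at h8
  have hi : ∀ p ∈ s, idx p ∈ [13, 11, 8, 5, 4, 3, 2, 1] := fun p hp =>
    (by decide +kernel : ∀ p ∈ toF 10558, idx p ∈ [13, 11, 8, 5, 4, 3, 2, 1]) p (hs hp)
  obtain ⟨y, hy, rfl⟩ := subsL_complete hi rfl
  obtain ⟨k, hk, e⟩ := List.mem_map.1 (subL_sound sgn_chk y (by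
    simp only [List.mem_append]
    have : (toF y).card = 0 ∨ (toF y).card = 2 ∨ (toF y).card = 4 ∨ (toF y).card = 6 ∨
      (toF y).card = 8 := by omega
    rcases this with h | h | h | h | h <;> rw [h] at hy <;> simp [hy]))
  have e' : toF (cw k) ∩ toF 8399167 = toF y := by rw [← toF_and, ← e]; rfl
  refine ⟨g • toF (cw k), (cw_cw (List.mem_range.1 hk)).smul g, ?_, ?_, ?_⟩
  · rw [← smul_finset_inter, ← inter_eq_left.2 hs, ← e', inter_assoc,
      show toF 8399167 ∩ toF 10558 = toF 10558 by decide +kernel]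
  · rw [smul_mem_smul_finset_iff]
    exact fun h => hp (smul_mem_smul_finset (hs (e' ▸ mem_inter.2 ⟨h, by decide +kernel⟩)))
  · rw [smul_mem_smul_finset_iff]
    exact fun h => hq (smul_mem_smul_finset (hs (e' ▸ mem_inter.2 ⟨h, by decide +kernel⟩)))

def bb {o : Finset GolayPt} (ho : o ∈ octads) : Λ := ⟨two o, two_mem ho.1⟩
def yy (p : GolayPt) : Λ := ⟨y0 p, y0_mem p⟩

theorem mono_bb (σ : M24) {o o' : Finset GolayPt} (ho : o ∈ octads) (ho' : o' ∈ octads)
    (e : σ • o = o') : mono σ CW.empty • bb ho = bb ho' := Subtype.ext (funext fun i => by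
  subst e
  obtain ⟨i, rfl⟩ := ex_smul σ i
  rw [mono_apply]
  simp [bb, two])

theorem mono_yy (σ : M24) (p : GolayPt) : mono σ CW.empty • yy p = yy (σ • p) :=
  Subtype.ext (funext fun i => by
    obtain ⟨i, rfl⟩ := ex_smul σ i
    rw [mono_apply]
    simp [yy, y0])

theorem mono_p4 (σ : M24) {c : Finset GolayPt} (hc : CW c) (i j : GolayPt) (a b : ℤ) (ha hb) :
    ((mono σ hc • p4 i j a b ha hb : Λ) : V) = Pi.single (σ • i) (if σ • i ∈ c then -a else a) +
      Pi.single (σ • j) (if σ • j ∈ c then -b else b) := by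
  rw [mono_smul, p4_coe, map_add, spH_single, spH_single]; rfl

theorem shapeB {y : Λ} (hy : sqNorm (y : V) = 32) (h0 : LV 0 y) (h4 : ¬ ∀ i, (y : V) i % 4 = 0) :
    ∃ ho : hi (y : V) ∈ octads, (∀ i, (i ∈ hi (y : V) → (y : V) i = 2 ∨ (y : V) i = -2) ∧
      (i ∉ hi (y : V) → (y : V) i = 0)) ∧ ∀ p q, p ≠ q → p ∉ hi (y : V) → q ∉ hi (y : V) →
      ∃ (c : Finset GolayPt) (hc : CW c), p ∉ c ∧ q ∉ c ∧ mono 1 hc • y = bb ho := by
  have h1 := hi_le_sqNorm h0.1
  have h8 : (hi (y : V)).card = 8 := by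
    by_contra h
    have e := h0.2.2.eq_empty (by omega)
    exact h4 fun k => by
      have : k ∉ hi (y : V) := by simp [e]
      rw [mem_hi] at this
      have := h0.1 k
      omega
  have sh := shape_two h0.1 (by rw [hy, h8]; rfl)
  refine ⟨⟨h0.2.2, h8⟩, sh, fun p q hpq hp hq => ?_⟩
  have e : ∑ i, (y : V) i = 2 * (hi (y : V)).card +
      (-4) * (univ.filter fun i => (y : V) i = -2).card := by
    rw [← sum_ind, ← sum_ind, ← sum_add_distrib]
    refine sum_congr rfl fun i _ => ?_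
    by_cases h : i ∈ hi (y : V)
    · rcases (sh i).1 h with e | e <;> simp [h, e]
    · simp [h, (sh i).2 h]
  obtain ⟨c, hc, e1, e2, e3⟩ := sgn10 (s := univ.filter fun i => (y : V) i = -2) ⟨h0.2.2, h8⟩ hpq hp hq
    (fun i hi => by rw [mem_hi, (mem_filter.1 hi).2]; decide) (by have := h0.2.1; omega)
  refine ⟨c, hc, e2, e3, Subtype.ext (funext fun i => ?_)⟩
  have := Finset.ext_iff.1 e1 i
  rw [sg_smul, sg_apply]
  simp only [mem_inter, mem_filter, mem_univ, true_and] at this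
  by_cases h : i ∈ hi (y : V)
  · rcases (sh i).1 h with e | e <;> simp [bb, two, h, e] at this ⊢ <;> simp [this]
  · simp [bb, two, h, (sh i).2 h]

theorem shapeC {y : Λ} (hy : sqNorm (y : V) = 32) (h1 : LV 1 y) :
    ∃ p, mono 1 h1.2.2 • y = yy p := by
  obtain ⟨p, h2, h3⟩ := shape_odd h1.1 hy
  refine ⟨p, Subtype.ext (funext fun i => ?_)⟩
  rw [sg_smul, sg_apply]
  simp only [mem_hi, yy, y0]
  by_cases h : i = p
  · subst h; rcases h2 with e | e <;> simp [e]
  · rcases h3 i h with e | e <;> simp [e, h]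

theorem sg_sg {c : Finset GolayPt} (hc : CW c) (y : Λ) : mono 1 hc • mono 1 hc • y = y :=
  Subtype.ext (funext fun i => by
    rw [sg_smul, sg_apply, sg_smul, sg_apply]; split_ifs <;> simp)

/-- equivalence of pairs -/
def PE (a b a' b' : Λ) : Prop := ∃ g ∈ Mon, g • a = a' ∧ g • b = b'

theorem PE.trans {a b a' b' a'' b'' : Λ} (h : PE a b a' b') (h' : PE a' b' a'' b'') :
    PE a b a'' b'' := by
  obtain ⟨g, hg, rfl, rfl⟩ := h
  obtain ⟨g', hg', rfl, rfl⟩ := h'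
  exact ⟨g' * g, mul_mem hg' hg, mul_smul _ _ _, mul_smul _ _ _⟩

theorem PE.symm {a b a' b' : Λ} (h : PE a b a' b') : PE a' b' a b := by
  obtain ⟨g, hg, rfl, rfl⟩ := h
  exact ⟨g⁻¹, inv_mem hg, inv_smul_smul _ _, inv_smul_smul _ _⟩

theorem v0_dot (y : V) : dotInt y (v0 : V) = y (pt 23) * 4 + y (pt 0) * 4 := dot_p4 _ _ _ _ _ _ _

/-- a sign change of `v0` orthogonal to a vector with equal entries -/
theorem sg_v0 {c : Finset GolayPt} (hc : CW c) {z : Λ} (h : dotInt (z : V) (mono 1 hc • v0 : Λ) = 0)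
    {a : ℤ} (ha : a ≠ 0) (h1 : (z : V) (pt 23) = a) (h2 : (z : V) (pt 0) = a) :
    ∃ p q, ((p = pt 23 ∧ q = pt 0) ∨ (p = pt 0 ∧ q = pt 23)) ∧ ∀ σ : M24, σ • pt 23 = p →
      σ • pt 0 = q → mono σ CW.empty • w0 = mono 1 hc • v0 := by
  rw [v0, mono_p4, dot_add, dot_single, dot_single, one_smul, one_smul, h1, h2] at h
  by_cases e : pt 23 ∈ c
  · refine ⟨pt 0, pt 23, Or.inr ⟨rfl, rfl⟩, fun σ e1 e2 => Subtype.ext ?_⟩
    rw [w0, v0, mono_p4, mono_p4, e1, e2, one_smul, one_smul, add_comm]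
    split_ifs at h ⊢ <;> first | omega | simp_all
  · refine ⟨pt 23, pt 0, Or.inl ⟨rfl, rfl⟩, fun σ e1 e2 => Subtype.ext ?_⟩
    rw [w0, v0, mono_p4, mono_p4, e1, e2, one_smul, one_smul]
    split_ifs at h ⊢ <;> first | omega | simp_all

theorem O1_mem : toF 10558 ∈ octads := toF_mem_octads (by decide +kernel)

noncomputable def cl (y : Λ) : ℕ := cN (enc y)

theorem cl_eq {y : Λ} (hy : sqNorm (y : V) = 32) : cl y =
    if (y : V) (pt 23) + (y : V) (pt 0) = 0 then if (y : V) (pt 23) % 2 = 1 then 2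
      else if (y : V) (pt 23) % 4 = 2 then 1 else if (y : V) (pt 23) = 0 then
        if ∀ i, (y : V) i % 4 = 0 then 3 else 4 else 0 else 5 := by
  have bd := bd_of_norm (x := y) (by omega)
  have k : ∀ i < 24, (dg (enc y) i : ℤ) = (y : V) (pt i) + 8 := fun i hi => by
    rw [dg_enc bd hi, dig_cast bd]
  have k1 := k 23 (by norm_num)
  have k2 := k 0 (by norm_num)
  have k3 : nall (fun i => Nat.beq (Nat.mod (dg (enc y) i) 4) 0) 24 = true ↔
      ∀ i, (y : V) i % 4 = 0 := by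
    rw [nall_iff]
    simp only [Nat.beq_eq, show ∀ a b : ℕ, Nat.mod a b = a % b from fun _ _ => rfl]
    refine ⟨fun h p => ?_, fun h i hi => ?_⟩
    · have := h _ (idx_lt p)
      have := k _ (idx_lt p)
      rw [pt_idx] at this
      omega
    · have := h (pt i)
      have := k i hi
      omega
  rw [cl, cN, force_eq]
  simp only [bif'_eq, k3]
  simp only [Nat.beq_eq, show ∀ a b : ℕ, Nat.mod a b = a % b from fun _ _ => rfl, Nat.add_eq]
  refine if_congr (by omega) (if_congr (by omega) rfl (if_congr (by omega) rfl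
    (if_congr (by omega) rfl rfl))) rfl

noncomputable def nf (k : ℕ) : Λ × Λ :=
  [(v0, w0), (w0, bb O0_mem), (w0, yy (pt 1)), (v0, p4 (pt 1) (pt 2) 4 4), (v0, bb O1_mem)].getD k (0, 0)

theorem mono_v0 {σ : M24} {c : Finset GolayPt} (hc : CW c)
    (h : (σ • pt 23 = pt 23 ∧ σ • pt 0 = pt 0) ∨ (σ • pt 23 = pt 0 ∧ σ • pt 0 = pt 23))
    (h1 : pt 23 ∉ c) (h2 : pt 0 ∉ c) : mono σ hc • v0 = v0 := Subtype.ext (by
  rw [v0, mono_p4, p4_coe]
  rcases h with ⟨a, b⟩ | ⟨a, b⟩ <;> rw [a, b, if_neg h1, if_neg h2]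
  rw [add_comm])

theorem pat4 (a b : ℤ) (ha : a = 4 ∨ a = -4) (hb : b = 4 ∨ b = -4) : ∃ c, CW c ∧ pt 23 ∉ c ∧
    pt 0 ∉ c ∧ (if pt 1 ∈ c then -4 else 4) = a ∧ (if pt 2 ∈ c then -4 else 4) = b := by
  rcases ha with rfl | rfl <;> rcases hb with rfl | rfl
  · exact ⟨∅, CW.empty, by simp⟩
  · exact ⟨toF 21116, isCW_cw (by decide +kernel), by decide +kernel⟩
  · exact ⟨toF 31554, isCW_cw (by decide +kernel), by decide +kernel⟩
  · exact ⟨toF 10558, isCW_cw (by decide +kernel), by decide +kernel⟩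

theorem to_nf {y : Λ} (hy : sqNorm (y : V) = 32) (h : cl y < 5) :
    PE (nf (cl y)).1 (nf (cl y)).2 v0 y := by
  have e := cl_eq hy
  have hd : (y : V) (pt 23) + (y : V) (pt 0) = 0 := by
    by_contra h'
    rw [if_neg h'] at e; omega
  have hd' : ∀ g : Co0, dotInt ((g • y : Λ) : V) (g • v0 : Λ) = 0 := fun g => by
    rw [dt_smul, v0_dot]; omega
  rw [if_pos hd] at e
  split_ifs at e with h1 h2 h3 h4 <;> rw [e]
  · have l := lv1_of y.2 h1
    obtain ⟨p, hp⟩ := shapeC hy l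
    have d := hd' (mono 1 l.2.2)
    rw [hp] at d
    have n : p ≠ pt 23 ∧ p ≠ pt 0 := by
      rw [v0, mono_p4, dot_add, dot_single, dot_single, one_smul, one_smul] at d
      simp only [yy, y0] at d
      constructor <;> rintro rfl <;> simp only [ne230, ne230.symm, if_true, if_false] at d <;>
        split_ifs at d <;> omega
    obtain ⟨a, b, hab, k⟩ := sg_v0 l.2.2 d (a := 1) (by norm_num) (if_neg n.1.symm) (if_neg n.2.symm)
    obtain ⟨σ, e1, e2, e3⟩ := std3 (a := a) (b := b) (c := p) (by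
      rcases hab with ⟨rfl, rfl⟩ | ⟨rfl, rfl⟩ <;> simp [ne230, ne230.symm, n.1.symm, n.2.symm])
    exact PE.trans ⟨_, mono_mem σ CW.empty, k σ e1 e2, (mono_yy _ _).trans (by rw [e3, ← hp])⟩
      ⟨_, mono_mem 1 l.2.2, sg_sg _ _, sg_sg _ _⟩
  · have l := lv0_of y.2 (i := pt 23) (by omega)
    obtain ⟨ho, sh, k⟩ := shapeB hy l fun h => by have := h (pt 23); omega
    obtain ⟨m, h1, h2, h3⟩ := extend_list (s := (hi (y : V))ᶜ) [] (by simp) (by simp) 2
      (by rw [card_compl, ho.2, card_pt]; simp)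
    match m, h1 with
    | [p, q], _ =>
      obtain ⟨c, hc, -, -, hp⟩ := k p q (by simpa using h2) (mem_compl.1 (h3 p (by simp)))
        (mem_compl.1 (h3 q (by simp)))
      have d := hd' (mono 1 hc)
      rw [hp] at d
      have m1 : pt 23 ∈ hi (y : V) := by rw [mem_hi]; omega
      have m2 : pt 0 ∈ hi (y : V) := by rw [mem_hi]; omega
      obtain ⟨a, b, hab, k⟩ := sg_v0 hc d (a := 2) (by norm_num) (if_pos m1) (if_pos m2)
      obtain ⟨σ, e1, e2, e3⟩ := pq_oct_in (p := a) (q := b) (by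
        rcases hab with ⟨rfl, rfl⟩ | ⟨rfl, rfl⟩ <;> simp [ne230, ne230.symm]) ho
        (by rcases hab with ⟨rfl, rfl⟩ | ⟨rfl, rfl⟩ <;> assumption)
        (by rcases hab with ⟨rfl, rfl⟩ | ⟨rfl, rfl⟩ <;> assumption)
      exact PE.trans ⟨_, mono_mem σ CW.empty, k σ e1 e2, (mono_bb _ O0_mem ho e3).trans hp.symm⟩ ⟨_, mono_mem 1 hc, sg_sg _ _, sg_sg _ _⟩
  · obtain ⟨i, j, hij, a, b, ha, hb, e⟩ := shape_four h4 hy
    have z : ∀ p, (y : V) p = 0 → p ≠ i ∧ p ≠ j := fun p hp => by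
      constructor <;> rintro rfl <;> rw [e] at hp <;>
        simp [Pi.single_apply, hij, hij.symm] at hp <;> omega
    have z1 := z _ h3
    have z2 := z (pt 0) (by omega)
    obtain ⟨σ, e1, e2, e3, e4⟩ := std4 (a := pt 23) (b := pt 0) (c := i) (d := j)
      (by simp [ne230, z1, z2, hij])
    obtain ⟨c, hc, c1, c2, c3, c4⟩ := pat4 a b ha hb
    refine ⟨_, mono_mem σ (hc.smul σ), mono_v0 _ (Or.inl ⟨e1, e2⟩)
      (by rwa [← e1, smul_mem_smul_finset_iff]) (by rwa [← e2, smul_mem_smul_finset_iff]),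
      Subtype.ext ?_⟩
    show ((mono σ _ • p4 (pt 1) (pt 2) 4 4 : Λ) : V) = _
    rw [mono_p4, e]
    simp only [smul_mem_smul_finset_iff, c3, c4]
    rw [e3, e4]
  · have l := lv0_of y.2 (i := pt 23) (by omega)
    obtain ⟨ho, sh, k⟩ := shapeB hy l h4
    have m1 : pt 23 ∉ hi (y : V) := by rw [mem_hi]; omega
    have m2 : pt 0 ∉ hi (y : V) := by rw [mem_hi]; omega
    obtain ⟨c, hc, c1, c2, hp⟩ := k _ _ ne230 m1 m2
    obtain ⟨σ, e1, e2, e3⟩ := pq_out ho ne230 m1 m2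
    exact PE.trans ⟨_, mono_mem σ CW.empty, mono_v0 _ (Or.inl ⟨e1, e2⟩) (by simp) (by simp),
      (mono_bb _ O1_mem ho e3).trans hp.symm⟩
      ⟨_, mono_mem 1 hc, mono_v0 _ (Or.inl ⟨rfl, rfl⟩) c1 c2, sg_sg _ _⟩
  · have h4 : (y : V) (pt 23) = 4 ∨ (y : V) (pt 23) = -4 := by
      have := sq_le_sqNorm (y : V) (pt 23)
      have : -6 < (y : V) (pt 23) ∧ (y : V) (pt 23) < 6 := by constructor <;> nlinarith
      omega
    obtain ⟨j, hj, b, hb, e⟩ := four_at hy h4
    have e0 := congrFun e (pt 0)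
    simp only [Pi.add_apply, Pi.single_apply, ne230.symm, if_false, zero_add] at e0
    have : pt 0 = j := by
      by_contra h; rw [if_neg h] at e0; omega
    subst this
    rw [if_pos rfl] at e0
    rcases h4 with h4 | h4
    · exact ⟨1, one_mem _, one_smul _ _, Subtype.ext (by
        rw [one_smul, e, h4, show b = -4 by omega]; rfl)⟩
    · obtain ⟨σ, e1, e2⟩ := std2 ne230.symm
      refine ⟨_, mono_mem σ CW.empty, mono_v0 _ (Or.inr ⟨e1, e2⟩) (by simp) (by simp),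
        Subtype.ext ?_⟩
      show ((mono σ _ • w0 : Λ) : V) = _
      rw [w0, mono_p4, e, h4, e1, e2, show b = 4 by omega, add_comm]
      simp

theorem card_cl (k : ℕ) : (fin_min.toFinset.filter fun y => cl y = k).card =
    (2 + 4928 * 2 ^ 20 + 45056 * 2 ^ 40 + 924 * 2 ^ 60 + 42240 * 2 ^ 80 + 103410 * 2 ^ 100) /
      (2 ^ 20) ^ k % 2 ^ 20 := by
  rw [← digit_sum _ _ _ _ (by rw [card_min]; norm_num : _ < 2 ^ 20), ← cN_chk, sum_min]
  congr 2
  refine ((sum_salt _ (fun v : Λ => cN (uns (lc v))) (by rw [card_min]; norm_num)).trans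
    (sum_congr rfl fun v hv => ?_)).symm
  rw [uns_lc (bd_of_norm (by rw [show sqNorm (v : V) = 32 by simpa using hv]; norm_num)), cl]

theorem std_of_eight {u : Λ} (hu : sqNorm (u : V) = 64) {i : GolayPt} (h : (u : V) i % 8 = 0)
    (h0 : (u : V) i ≠ 0) : (u : V) ∈ stdCross := by
  have := abs_le_eight (x := u) (by omega) i
  have h8 : (u : V) i = 8 ∨ (u : V) i = -8 := by omega
  refine ⟨i, _, h8, funext fun j => ?_⟩
  rw [Pi.single_apply]
  split_ifs with e
  · rw [e]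
  · have := sum_le_sqNorm (u : V) {i, j}
    rw [sum_pair (Ne.symm e)] at this
    have : (u : V) j ^ 2 ≤ 0 := by rcases h8 with h | h <;> rw [h] at this <;> omega
    nlinarith [sq_nonneg ((u : V) j)]

theorem three (i j : GolayPt) : ∃ k, k ≠ i ∧ k ≠ j := by
  obtain ⟨k, hk⟩ := exists_notMem_list [i, j] (by simp)
  exact ⟨k, by simpa using hk⟩

theorem mon_of_A {h : Co0} (H : ∀ y : Λ, sqNorm (y : V) = 32 → (∀ i, (y : V) i % 4 = 0) →
    ((h • y : Λ) : V) (pt 23) % 4 = 0) : h ∈ Mon := by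
  rw [← inv_mem_iff]
  refine mem_Mon_of_one (i := pt 23) ?_
  set u := h⁻¹ • e8 (pt 23) with hu
  have n : sqNorm (u : V) = 64 := by rw [nm_smul, nm_e8]
  have k : ∀ i j, i ≠ j → ((u : V) i + (u : V) j) % 8 = 0 := fun i j hij => by
    have := H (p4 i j 4 4) (nm_p4 hij _ _ _ _) fun l => by
      simp only [p4_coe, Pi.add_apply, Pi.single_apply]; split_ifs <;> rfl
    have d := dt_smul h u (p4 i j 4 4)
    rw [hu, smul_inv_smul, ← hu, dot_comm, dot_e8, dot_p4] at d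
    omega
  obtain ⟨i, hi⟩ := Function.ne_iff.1 (show (u : V) ≠ 0 from fun h => by simp [h, sqNorm] at n)
  by_cases e : (u : V) i % 8 = 0
  · exact std_of_eight n e hi
  have : ∀ j, 16 ≤ (u : V) j ^ 2 := fun j => by
    have : (u : V) j % 8 = 4 := by
      obtain ⟨l, h1, h2⟩ := three i j
      obtain ⟨m, h3, h4⟩ := three i l
      have := k l i h1
      have := k l j h2
      have := k m i h3
      have := k m l h4
      omega
    have : 4 ≤ (u : V) j ∨ (u : V) j ≤ -4 := by omega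
    rcases this with h | h <;> nlinarith
  have := sum_le_sum (s := univ) fun j _ => this j
  rw [sum_one24] at this
  unfold sqNorm at n
  omega

theorem mon_of_B {h : Co0} (H : ∀ y : Λ, sqNorm (y : V) = 32 → LV 0 y → (¬ ∀ i, (y : V) i % 4 = 0) →
    ((h • y : Λ) : V) (pt 23) % 2 = 0) : h ∈ Mon := by
  rw [← inv_mem_iff]
  refine mem_Mon_of_one (i := pt 23) ?_
  set u := h⁻¹ • e8 (pt 23) with hu
  have n : sqNorm (u : V) = 64 := by rw [nm_smul, nm_e8]
  have H' : ∀ y : Λ, sqNorm (y : V) = 32 → ∀ i, (y : V) i = 2 → dotInt (u : V) y % 16 = 0 :=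
    fun y hy i hi => by
      have := H y hy (lv0_of y.2 (i := i) (by omega)) fun h => by have := h i; omega
      have d := dt_smul h u y
      rw [hu, smul_inv_smul, ← hu, dot_comm, dot_e8] at d
      omega
  have nb : ∀ {o} (ho : o ∈ octads), sqNorm (bb ho : V) = 32 := fun ho => by
    rw [bb, sqNorm_two, ho.2]; rfl
  have k : ∀ i j, i ≠ j → ((u : V) i + (u : V) j) % 4 = 0 := fun i j hij => by
    obtain ⟨σ, rfl, rfl⟩ := std2 hij
    have ho := (oct_smul_iff σ).2 O0_mem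
    have m1 : (bb ho : V) (σ • pt 23) = 2 := if_pos (smul_mem_smul_finset (by decide +kernel))
    have m2 : (bb ho : V) (σ • pt 0) = 2 := if_pos (smul_mem_smul_finset (by decide +kernel))
    have a := H' _ (nb ho) _ m1
    have b := H' (p4 (σ • pt 23) (σ • pt 0) 4 4 - bb ho) (by
      rw [AddSubgroup.coe_sub, sqNorm_sub, nm_p4 hij, nb, dot_comm, dot_p4, m1, m2]; rfl)
      (σ • pt 23) (by
        rw [AddSubgroup.coe_sub, Pi.sub_apply, m1, p4_coe]; simp [Pi.single_apply, hij])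
    rw [AddSubgroup.coe_sub, dot_sub, dot_p4] at b
    omega
  have k2 : ∀ i j, (u : V) i % 2 = 0 ∧ (u : V) i % 4 = (u : V) j % 4 := fun i j => by
    obtain ⟨l, h1, h2⟩ := three i j
    obtain ⟨m, h3, h4⟩ := three i l
    have := k l i h1
    have := k l j h2
    have := k m i h3
    have := k m l h4
    omega
  have k4 : ∀ i, (u : V) i % 4 = 0 := fun i => by
    by_contra h'
    have := hi_le_sqNorm fun i => (k2 i i).1
    rw [show hi (u : V) = univ from eq_univ_of_forall fun j => by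
      have := k2 i j; rw [mem_hi]; omega, card_univ, card_pt] at this
    omega
  by_contra hs
  have k0 : ∀ i, (u : V) i = 0 ∨ (u : V) i = 4 ∨ (u : V) i = -4 := fun i => by
    have := abs_le_eight (x := u) (by omega) i
    have := k4 i
    by_contra h'
    exact hs (std_of_eight n (i := i) (by omega) (by omega))
  have e : sqNorm (u : V) = 16 * (univ.filter fun i => (u : V) i ≠ 0).card := by
    rw [← sum_ind]
    refine sum_congr rfl fun i _ => ?_
    rcases k0 i with h | h | h <;> simp [h]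
  obtain ⟨σ, e2⟩ := std_tet (show (univ.filter fun i => (u : V) i ≠ 0).card = 4 by omega)
  have ho := (oct_smul_iff σ).2 (toF_mem_octads (n := 15777) (by decide +kernel))
  have a := H' _ (nb ho) (σ • pt 0) (if_pos (smul_mem_smul_finset (by decide +kernel)))
  have m : ∀ i, (u : V) (σ • i) ≠ 0 ↔ i ∈ toF 8388615 := fun i => by
    rw [← smul_mem_smul_finset_iff σ, e2]; simp
  rw [dotInt, sum_eq_single (σ • pt 0) (fun i _ hi => by
    obtain ⟨i, rfl⟩ := ex_smul σ i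
    by_cases h1 : i ∈ toF 8388615
    · have : i ∉ toF 15777 := fun h2 => hi (by
        rw [(by decide +kernel : ∀ i ∈ toF 8388615, i ∈ toF 15777 → i = pt 0) i h1 h2])
      simp [bb, two, this]
    · rw [← m, not_not] at h1; rw [h1, zero_mul]) (by simp),
    show (bb ho : V) (σ • pt 0) = 2 from if_pos (smul_mem_smul_finset (by decide +kernel))] at a
  have := (m (pt 0)).2 (by decide +kernel)
  have := k0 (σ • pt 0)
  omega

theorem monA {y : Λ} (hy : sqNorm (y : V) = 32) (h : ∀ i, (y : V) i % 4 = 0) :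
    ∃ g ∈ Mon, g • p4 (pt 1) (pt 2) 4 4 = y := by
  obtain ⟨i, j, hij, a, b, ha, hb, e⟩ := shape_four h hy
  obtain ⟨p, hp⟩ := exists_notMem_list [i, j] (by simp)
  obtain ⟨q, hq⟩ := exists_notMem_list [p, i, j] (by simp)
  simp only [List.mem_cons, List.not_mem_nil, or_false, not_or] at hp hq
  obtain ⟨σ, e1, e2, e3, e4⟩ := std4 (a := q) (b := p) (c := i) (d := j) (by simp [*])
  obtain ⟨c, hc, c1, c2, c3, c4⟩ := pat4 a b ha hb
  refine ⟨_, mono_mem σ (hc.smul σ), Subtype.ext ?_⟩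
  rw [mono_p4, e]
  simp only [smul_mem_smul_finset_iff, c3, c4]
  rw [e3, e4]

theorem monB {y : Λ} (hy : sqNorm (y : V) = 32) (l : LV 0 y) (h : ¬ ∀ i, (y : V) i % 4 = 0) :
    ∃ g ∈ Mon, g • bb O0_mem = y := by
  obtain ⟨ho, sh, k⟩ := shapeB hy l h
  obtain ⟨m, h1, h2, h3⟩ := extend_list (s := (hi (y : V))ᶜ) [] (by simp) (by simp) 2
    (by rw [card_compl, ho.2, card_pt]; simp)
  match m, h1 with
  | [p, q], _ =>
    obtain ⟨c, hc, -, -, hp⟩ := k p q (by simpa using h2) (mem_compl.1 (h3 p (by simp)))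
      (mem_compl.1 (h3 q (by simp)))
    obtain ⟨σ, e⟩ := std_oct ho
    refine ⟨_, mul_mem (mono_mem 1 hc) (mono_mem σ CW.empty), ?_⟩
    rw [mul_smul, mono_bb _ _ ho e, ← hp, sg_sg]

theorem monC {y : Λ} (hy : sqNorm (y : V) = 32) (l : LV 1 y) : ∃ g ∈ Mon, g • yy (pt 23) = y := by
  obtain ⟨p, hp⟩ := shapeC hy l
  obtain ⟨σ, rfl⟩ := std1 p
  exact ⟨_, mul_mem (mono_mem 1 l.2.2) (mono_mem σ CW.empty), by rw [mul_smul, mono_yy, ← hp, sg_sg]⟩

theorem K_trans {K : Subgroup Co0} (h : Mon < K) {y : Λ} (hy : sqNorm (y : V) = 32) :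
    ∃ g ∈ K, g • v0 = y := by
  obtain ⟨x, hx, hx'⟩ := SetLike.exists_of_lt h
  have tB : ∃ g ∈ K, g • yy (pt 23) = bb O0_mem := by
    by_contra hn
    refine hx' (mon_of_B fun y hy l h4 => ?_)
    by_contra h2
    obtain ⟨g, hg, rfl⟩ := monB hy l h4
    obtain ⟨g', hg', e⟩ := monC ((nm_smul x _).trans hy) (lv1_of (Subtype.prop _) (i := pt 23) (by omega))
    exact hn ⟨(x * g)⁻¹ * g', mul_mem (inv_mem (mul_mem hx (h.le hg))) (h.le hg'), by
      rw [mul_smul, e, ← mul_smul x, inv_smul_smul]⟩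
  have tN : ∀ y : Λ, sqNorm (y : V) = 32 → (¬ ∀ i, (y : V) i % 4 = 0) →
      ∃ g ∈ K, g • yy (pt 23) = y := fun y hy h4 => by
    rcases mem_lat.1 y.2 with l | l
    · obtain ⟨g, hg, rfl⟩ := monB hy l h4
      obtain ⟨g', hg', e⟩ := tB
      exact ⟨g * g', mul_mem (h.le hg) hg', by rw [mul_smul, e]⟩
    · obtain ⟨g, hg, e⟩ := monC hy l
      exact ⟨g, h.le hg, e⟩
  have tA : ∃ g ∈ K, g • yy (pt 23) = p4 (pt 1) (pt 2) 4 4 := by
    by_contra hn
    refine hx' (mon_of_A fun y hy h4 => ?_)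
    by_contra h2
    obtain ⟨g, hg, rfl⟩ := monA hy h4
    obtain ⟨g', hg', e⟩ := tN _ ((nm_smul x _).trans hy) fun h => h2 (h _)
    exact hn ⟨(x * g)⁻¹ * g', mul_mem (inv_mem (mul_mem hx (h.le hg))) hg', by
      rw [mul_smul, e, ← mul_smul x, inv_smul_smul]⟩
  have t : ∀ y : Λ, sqNorm (y : V) = 32 → ∃ g ∈ K, g • yy (pt 23) = y := fun y hy => by
    by_cases h4 : ∀ i, (y : V) i % 4 = 0
    · obtain ⟨g, hg, rfl⟩ := monA hy h4
      obtain ⟨g', hg', e⟩ := tA
      exact ⟨g * g', mul_mem (h.le hg) hg', by rw [mul_smul, e]⟩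
    · exact tN y hy h4
  obtain ⟨g, hg, e⟩ := t _ nm_v0
  obtain ⟨g', hg', rfl⟩ := t _ hy
  exact ⟨g' * g⁻¹, mul_mem hg' (inv_mem hg), by rw [← e, tr2]⟩

theorem cl_lt {y : Λ} (hy : sqNorm (y : V) = 32) : cl y < 5 ↔ dotInt (y : V) (v0 : V) = 0 := by
  rw [cl_eq hy, v0_dot]
  split_ifs <;> simp <;> omega

theorem dot_w0 : dotInt (w0 : V) (v0 : V) = 0 := by
  rw [v0_dot, w0, p4_coe]; simp [Pi.single_apply, ne230, ne230.symm]

theorem arith {a b c d e : ℕ} (h : 23 ∣ 0 + a + b + c + d + e) (ha : a = 2) (hb : b = 0 ∨ b = 4928)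
    (hc : c = 0 ∨ c = 45056) (hd : d = 0 ∨ d = 924) (he : e = 0 ∨ e = 42240) :
    b ≠ 0 ∧ c ≠ 0 ∧ d ≠ 0 ∧ e ≠ 0 := by
  rcases hb with rfl | rfl <;> rcases hc with rfl | rfl <;> rcases hd with rfl | rfl <;>
    rcases he with rfl | rfl <;> subst ha <;> revert h <;> decide

theorem K_trans2 {K : Subgroup Co0} (h : Mon < K) {y : Λ} (hy : sqNorm (y : V) = 32)
    (hd : dotInt (y : V) (v0 : V) = 0) : ∃ g ∈ K, g • v0 = v0 ∧ g • w0 = y := by
  classical
  have tot : ∀ Z : Finset Λ, (∀ y ∈ Z, sqNorm (y : V) = 32 ∧ cl y < 5) →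
      Z.card = ∑ k ∈ range 5, (Z.filter fun y => cl y = k).card := fun Z hZ =>
    card_eq_sum_card_fiberwise fun y hy => mem_coe.2 (mem_range.2 (hZ y hy).2)
  have c1 := card_eq_orbit_mul (H := K) (K := K ⊓ stabilizer Co0 v0) (x := v0)
    (S := {v : Λ | sqNorm (v : V) = 32}) (fun g => Iff.rfl) (fun g _ => (nm_smul _ _).trans nm_v0)
    fun y hy => K_trans h hy
  rw [ncard_lat fun x => sqNorm x = 32, count32] at c1
  let Z := fin_min.toFinset.filter fun y => ∃ g ∈ K ⊓ stabilizer Co0 v0, g • w0 = y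
  have mZ : ∀ y, y ∈ Z ↔ ∃ g ∈ K ⊓ stabilizer Co0 v0, g • w0 = y := fun y => by
    simp only [Z, mem_filter, Set.Finite.mem_toFinset, Set.mem_setOf_eq, and_iff_right_iff_imp]
    rintro ⟨g, -, rfl⟩
    rw [nm_smul, nm_w0]
  have hZ : ∀ y ∈ Z, sqNorm (y : V) = 32 ∧ cl y < 5 := fun y hy => by
    obtain ⟨g, hg, rfl⟩ := (mZ y).1 hy
    have n := (nm_smul g _).trans nm_w0
    refine ⟨n, (cl_lt n).2 ?_⟩
    rw [← mem_stabilizer_iff.1 hg.2, dt_smul, dot_w0]
  have c2 := card_eq_orbit_mul (H := K ⊓ stabilizer Co0 v0)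
    (K := K ⊓ stabilizer Co0 v0 ⊓ stabilizer Co0 w0) (x := w0) (S := Z) (fun g => Iff.rfl)
    (fun g hg => (mZ _).2 ⟨g, hg, rfl⟩) fun y hy => (mZ y).1 hy
  let Y := fin_min.toFinset.filter fun y => cl y < 5
  have mY : ∀ y, y ∈ Y ↔ sqNorm (y : V) = 32 ∧ cl y < 5 := fun y => by simp [Y]
  have c3 := card_eq_orbit_mul (H := stabilizer Co0 v0)
    (K := stabilizer Co0 v0 ⊓ stabilizer Co0 w0) (x := w0) (S := Y) (fun g => Iff.rfl)
    (fun g hg => by
      have n := (nm_smul g _).trans nm_w0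
      refine (mY _).2 ⟨n, (cl_lt n).2 ?_⟩
      rw [← mem_stabilizer_iff.1 hg, dt_smul, dot_w0])
    fun y hy => by
      obtain ⟨a, b⟩ := (mY y).1 hy
      exact orth_std nm_v0 a (by rw [dot_comm]; exact (cl_lt a).1 b)
  have fY : ∀ k < 5, (Y.filter fun y => cl y = k) = fin_min.toFinset.filter fun y => cl y = k :=
    fun k hk => by
      rw [filter_filter]
      exact filter_congr fun y _ => ⟨fun h => h.2, fun h => ⟨h ▸ hk, h⟩⟩
  rw [Set.ncard_coe_finset, tot Y fun y => (mY y).1, sum_congr rfl fun k hk => by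
    rw [fY k (mem_range.1 hk), card_cl], card_stab2 nm_v0] at c3
  rw [show ∑ k ∈ range 5, (2 + 4928 * 2 ^ 20 + 45056 * 2 ^ 40 + 924 * 2 ^ 60 + 42240 * 2 ^ 80 +
    103410 * 2 ^ 100) / (2 ^ 20) ^ k % 2 ^ 20 = 93150 by decide +kernel] at c3
  have c4 := Subgroup.card_dvd_of_le (inf_le_inf_right (stabilizer Co0 w0)
    (inf_le_right : K ⊓ stabilizer Co0 v0 ≤ _))
  rw [show Nat.card ↥(stabilizer Co0 v0 ⊓ stabilizer Co0 w0) = 454164480 by omega] at c4
  have c5 := Subgroup.card_dvd_of_le h.le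
  rw [card_Mon] at c5
  have c6 : 23 ∣ Z.card := by
    have p23 : Nat.Prime 23 := by norm_num
    have := (by norm_num : 23 ∣ 4096 * 244823040).trans c5
    rw [c1, p23.dvd_mul, c2, p23.dvd_mul, Set.ncard_coe_finset] at this
    rcases this with h | h | h
    · norm_num at h
    · exact h
    · exact absurd (h.trans c4) (by norm_num)
  have fZ : ∀ k < 5, (Z.filter fun y => cl y = k) = ∅ ∨
      (Z.filter fun y => cl y = k) = fin_min.toFinset.filter fun y => cl y = k := fun k hk => by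
    refine (Z.filter fun y => cl y = k).eq_empty_or_nonempty.imp_right fun ⟨z, hz⟩ => ?_
    obtain ⟨h1, rfl⟩ := mem_filter.1 hz
    refine Subset.antisymm (filter_subset_filter _ (filter_subset _ _)) fun y hy => ?_
    simp only [mem_filter, Set.Finite.mem_toFinset, Set.mem_setOf_eq] at hy
    have a := to_nf hy.1 (hy.2 ▸ hk)
    rw [hy.2] at a
    obtain ⟨g, hg, e1, rfl⟩ := (to_nf (hZ z h1).1 hk).symm.trans a
    obtain ⟨g', hg', rfl⟩ := (mZ z).1 h1
    exact mem_filter.2 ⟨(mZ _).2 ⟨g * g', mul_mem ⟨h.le hg, e1⟩ hg', mul_smul _ _ _⟩, hy.2⟩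
  have f0 : (Z.filter fun y => cl y = 0) ≠ ∅ := Nonempty.ne_empty ⟨w0, mem_filter.2
    ⟨(mZ _).2 ⟨1, one_mem _, one_smul _ _⟩, by
      rw [cl_eq nm_w0, w0, p4_coe]; simp [Pi.single_apply, ne230, ne230.symm]⟩⟩
  have n : ∀ k < 5, (Z.filter fun y => cl y = k) ≠ ∅ := by
    rw [tot Z hZ] at c6
    simp only [sum_range_succ, sum_range_zero] at c6
    have a := arith c6 (by rw [(fZ 0 (by norm_num)).resolve_left f0, card_cl]; decide +kernel)
      ((fZ 1 (by norm_num)).imp (congrArg card) fun e => by rw [e, card_cl]; decide +kernel)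
      ((fZ 2 (by norm_num)).imp (congrArg card) fun e => by rw [e, card_cl]; decide +kernel)
      ((fZ 3 (by norm_num)).imp (congrArg card) fun e => by rw [e, card_cl]; decide +kernel)
      ((fZ 4 (by norm_num)).imp (congrArg card) fun e => by rw [e, card_cl]; decide +kernel)
    intro k hk e
    have e' := congrArg card e
    interval_cases k
    · exact f0 e
    · exact a.1 e'
    · exact a.2.1 e'
    · exact a.2.2.1 e'
    · exact a.2.2.2 e'
  have k5 := (cl_lt hy).2 hd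
  have : y ∈ Z.filter fun z => cl z = cl y := by
    rw [(fZ _ k5).resolve_left (n _ k5)]
    simpa using hy
  obtain ⟨g, hg, e⟩ := (mZ y).1 (mem_filter.1 this).1
  exact ⟨g, hg.1, hg.2, e⟩

theorem mon_max : IsCoatom Mon := by
  refine ⟨fun h => ?_, fun K h => top_unique fun g _ => ?_⟩
  · have := card_Mon
    rw [h, Subgroup.card_top, card_Co0] at this
    norm_num at this
  obtain ⟨a, ha, e⟩ := K_trans h ((nm_smul g _).trans nm_v0)
  have e1 : (a⁻¹ * g) • v0 = v0 := by rw [mul_smul, ← e, inv_smul_smul]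
  obtain ⟨b, hb, e2, e3⟩ := K_trans2 h ((nm_smul (a⁻¹ * g) _).trans nm_w0)
    (by rw [← dot_w0, ← dt_smul (a⁻¹ * g) w0, e1])
  have : b⁻¹ * (a⁻¹ * g) ∈ K := h.le (stab_e8_le (pt 23) (by
    rw [mem_stabilizer_iff, ← v0_add_w0, co_add, mul_smul, mul_smul _ _ w0, e1, ← e3, inv_smul_smul,
      inv_smul_eq_iff.2 e2.symm]))
  rwa [mul_mem_cancel_left (inv_mem hb), mul_mem_cancel_left (inv_mem ha)] at this

end Cfsg.Agent.MX
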